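import Groth.Agent.LeadUV.AdicBase
import Groth.Agent.H24FSch.ModSysPush
import Groth.Agent.H10Coh.GenHom
import Groth.Agent.LeadDev.Generic

/-!
# A coherent module on an adic system: the graded pieces on the zeroth level
-/

set_option autoImplicit false
set_option linter.style.haveILetI false
set_option linter.unusedSectionVars false

noncomputable section

universe u

open CategoryTheory CategoryTheory.Limits AlgebraicGeometry Opposite TopologicalSpace

namespace Groth.Agent.LeadUV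

open Groth.Agent.H10Coh Groth.Agent.H10Coh.Tw

attribute [local instance 10000] H10Coh.hasSheafifyAb H10Coh.hasWeakSheafifyAb H10Coh.hasExtAb H10Coh.enoughInjAb

variable {A : Type u} [CommRing A] {J : Ideal A} {Xs : ℕ → Scheme.{u}}
  {p : (k : ℕ) → (Xs k ⟶ Spec (CommRingCat.of (A ⧸ J ^ (k + 1))))} {i : (k : ℕ) → (Xs k ⟶ Xs (k + 1))}

variable (J p i) in
/-- A coherent module on an adic system of schemes. -/
structure AdicSys where
  cart : ∀ k, IsPullback (i k) (p k) (p (k + 1)) (CohB1.specQuotTrans J k)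
  F : (k : ℕ) → (Xs k).Modules
  coh : ∀ k, Coh.IsCoh (F k)
  ψ : ∀ k, (Scheme.Modules.pullback (i k)).obj (F (k + 1)) ≅ F k

theorem isCoh_pullback' {X Y : Scheme.{u}} (f : X ⟶ Y) {F : Y.Modules} (hF : Coh.IsCoh F) :
    Coh.IsCoh ((Scheme.Modules.pullback f).obj F) :=
  ⟨H29Fitt.isQCoh_pullback _ F hF.1, H29Fitt.isFT_pullback _ F hF.1 hF.2⟩

namespace AdicSys

variable (S : AdicSys J p i)

/-- The transition to the previous level. -/
def trans (k : ℕ) : S.F (k + 1) ⟶ (Scheme.Modules.pushforward (i k)).obj (S.F k) :=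
  (Scheme.Modules.pullbackPushforwardAdjunction (i k)).unit.app (S.F (k + 1)) ≫
    (Scheme.Modules.pushforward (i k)).map (S.ψ k).hom

include S in
theorem clI (k : ℕ) : IsClosedImmersion (i k) := isClosedImmersion_i J p i S.cart k

include S in
theorem clJ (k : ℕ) : IsClosedImmersion (jj i k) := isClosedImmersion_jj J p i S.cart k

include S in
theorem affine_pre (k : ℕ) {W : (Xs (k + 1)).Opens} (hW : IsAffineOpen W) : IsAffineOpen (i k ⁻¹ᵁ W) :=
  haveI := S.clI k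
  hW.preimage (i k)

theorem trans_surjective (k : ℕ) {W : (Xs (k + 1)).Opens} (hW : IsAffineOpen W) :
    Function.Surjective ((S.trans k).app W) := by
  haveI := S.clI k
  haveI : IsClosedImmersion (i k ∣_ W) :=
    IsZariskiLocalAtTarget.restrict (P := @IsClosedImmersion) (f := i k) ‹_› _
  intro y
  obtain ⟨z, hz⟩ := (H17.PullSect.bijective_app (S.ψ k).hom (i k ⁻¹ᵁ W)).2 y
  obtain ⟨m, hm⟩ := (H17.PullSect.isQuotOn_of_isAffineOpen (i k) _ (S.coh (k + 1)).1 hW).1 z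
  exact ⟨m, (congrArg ((S.ψ k).hom.app (i k ⁻¹ᵁ W)) hm).trans hz⟩

theorem mem_of_trans_eq_zero (k : ℕ) {W : (Xs (k + 1)).Opens} (hW : IsAffineOpen W) (m : Γ(S.F (k + 1), W))
    (h : (S.trans k).app W m = 0) :
    m ∈ (J ^ (k + 1)).map (sc J p (k + 1) W) • (⊤ : Submodule Γ(Xs (k + 1), W) Γ(S.F (k + 1), W)) := by
  haveI := S.clI k
  haveI : IsClosedImmersion (i k ∣_ W) :=
    IsZariskiLocalAtTarget.restrict (P := @IsClosedImmersion) (f := i k) ‹_› _
  have h0 : OmegaSh.pullSect (i k) (S.F (k + 1)) W m = 0 :=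
    (H17.PullSect.bijective_app (S.ψ k).hom (i k ⁻¹ᵁ W)).1 (h.trans (map_zero _).symm)
  have h1 := (H17.PullSect.isQuotOn_of_isAffineOpen (i k) _ (S.coh (k + 1)).1 hW).2 m h0
  rwa [← Scheme.Hom.ker_apply (i k) ⟨W, hW⟩, ker_i_ideal J p i S.cart k ⟨W, hW⟩] at h1

theorem qcoh_push (k : ℕ) : Coh.IsQCoh ((Scheme.Modules.pushforward (i k)).obj (S.F k)) := by
  haveI := S.clI k
  haveI : (S.F k).IsQuasicoherent := (S.coh k).1
  exact H10Coh.isQuasicoherent_pushforward_of_isAffineHom (i k) (S.F k)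

theorem epi_trans (k : ℕ) : Epi (S.trans k) :=
  H10Coh.epi_of_surjective_on_cover (S.trans k) (S.qcoh_push k) (fun W : (Xs (k + 1)).affineOpens => W.1)
    (fun W => W.2)
    (fun x => by
      obtain ⟨W, hW, hx, -⟩ := exists_isAffineOpen_mem_and_subset (U := (⊤ : (Xs (k + 1)).Opens)) (x := x) trivial
      exact ⟨⟨W, hW⟩, hx⟩)
    fun W => ⟨Set.univ, Submodule.span_univ, fun σ _ => S.trans_surjective k W.2 σ⟩

/-- The graded piece upstairs. -/
def P (k : ℕ) : (Xs (k + 1)).Modules := kernel (S.trans k)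

/-- Its inclusion. -/
def ι (k : ℕ) : S.P k ⟶ S.F (k + 1) := kernel.ι (S.trans k)

theorem ι_trans (k : ℕ) : S.ι k ≫ S.trans k = 0 := kernel.condition _

theorem ι_injective (k : ℕ) (W : (Xs (k + 1)).Opens) : Function.Injective ((S.ι k).app W) := by
  haveI : Mono (S.ι k) := inferInstanceAs (Mono (kernel.ι _))
  exact injective_app_of_mono' (S.ι k) W

theorem isCoh_P [IsNoetherianRing A] (hp : IsProper (p 0)) (k : ℕ) : Coh.IsCoh (S.P k) := by
  haveI := isNoetherian_level J p i S.cart hp (k + 1)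
  exact isCoh_kernel (S.trans k) (S.coh (k + 1)) (S.qcoh_push k)

theorem sc_smul_eq_zero (k : ℕ) {a : A} (ha : a ∈ J) {W : (Xs (k + 1)).Opens} (hW : IsAffineOpen W)
    (x : Γ(S.P k, W)) : sc J p (k + 1) W a • x = 0 := by
  refine S.ι_injective k W ?_
  rw [Scheme.Modules.Hom.app_smul, map_zero]
  have h := S.mem_of_trans_eq_zero k hW ((S.ι k).app W x) (by
    show (S.ι k ≫ S.trans k).app W x = 0
    rw [ι_trans]
    rfl)
  refine Submodule.smul_induction_on h (fun r hr z _ => ?_) (fun z z' hz hz' => by rw [smul_add, hz, hz', add_zero])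
  rw [smul_smul]
  have : sc J p (k + 1) W a * r ∈ (J * J ^ (k + 1)).map (sc J p (k + 1) W) := by
    rw [Ideal.map_mul]
    exact Ideal.mul_mem_mul (Ideal.mem_map_of_mem _ ha) hr
  rw [← pow_succ', map_sc_eq_bot J p le_rfl, Ideal.mem_bot] at this
  rw [this, zero_smul]

theorem killed (k : ℕ) : ClSub.KilledByIdeal (jj i (k + 1)).ker (S.P k) := by
  intro U a ha m
  rw [ker_jj_ideal J p i S.cart (k + 1) U] at ha
  change Γ(S.P k, U.1) at m
  show a • m = 0
  induction ha using Submodule.span_induction with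
  | mem c hc =>
    obtain ⟨b, hb, rfl⟩ := hc
    exact S.sc_smul_eq_zero k hb U.2 m
  | zero => rw [zero_smul]
  | add c c' _ _ h h' => rw [add_smul, h, h', add_zero]
  | smul r c _ h => rw [smul_eq_mul, mul_smul, h, smul_zero]

/-- Multiplication by a constant. -/
def mul (k : ℕ) (M : (Xs k).Modules) (a : A) : M ⟶ M := Formal.smulModΓ M (gl J p k a)

theorem mul_app (k : ℕ) (M : (Xs k).Modules) (a : A) (W : (Xs k).Opens) (m : Γ(M, W)) :
    (mul (J := J) (p := p) k M a).app W m = sc J p k W a • m := rfl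

theorem ι_mul (k : ℕ) {a : A} (ha : a ∈ J) : S.ι k ≫ mul (J := J) (p := p) (k + 1) (S.F (k + 1)) a = 0 := by
  refine LeadFF.hom_ext_affine _ _ fun W hW x => ?_
  show sc J p (k + 1) W a • (S.ι k).app W x = 0
  rw [← Scheme.Modules.Hom.app_smul, S.sc_smul_eq_zero k ha hW, map_zero]

theorem mul_trans (k : ℕ) (a : A) :
    mul (J := J) (p := p) (k + 1) (S.F (k + 1)) a ≫ S.trans k =
      S.trans k ≫ (Scheme.Modules.pushforward (i k)).map (mul (J := J) (p := p) k (S.F k) a) := by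
  refine LeadFF.hom_ext_affine _ _ fun W hW x => ?_
  show (S.trans k).app W (sc J p (k + 1) W a • x) = sc J p k (i k ⁻¹ᵁ W) a • (show Γ(S.F k, i k ⁻¹ᵁ W) from (S.trans k).app W x)
  rw [Scheme.Modules.Hom.app_smul, ← app_sc J p i S.cart k W a]
  rfl

variable {a : A} (ha : a ∈ J)

/-- Multiplication by an element of the ideal, one level up. -/
def up (k : ℕ) : (Scheme.Modules.pushforward (i (k + 1))).obj (S.F (k + 1)) ⟶ S.F (k + 2) :=
  haveI := S.epi_trans (k + 1)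
  Abelian.epiDesc (S.trans (k + 1)) (mul (J := J) (p := p) (k + 2) (S.F (k + 2)) a) (S.ι_mul (k + 1) ha)

theorem trans_up (k : ℕ) : S.trans (k + 1) ≫ S.up ha k = mul (J := J) (p := p) (k + 2) (S.F (k + 2)) a :=
  haveI := S.epi_trans (k + 1)
  Abelian.comp_epiDesc _ _ _

theorem up_app (k : ℕ) (W : (Xs (k + 2)).Opens) (m : Γ(S.F (k + 2), W)) :
    (S.up ha k).app W ((S.trans (k + 1)).app W m) = sc J p (k + 2) W a • m :=
  congr($(congrArg (fun φ => Scheme.Modules.Hom.app φ W) (S.trans_up ha k)) m)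

theorem up_trans (k : ℕ) :
    S.up ha k ≫ S.trans (k + 1) =
      (Scheme.Modules.pushforward (i (k + 1))).map (mul (J := J) (p := p) (k + 1) (S.F (k + 1)) a) := by
  haveI := S.epi_trans (k + 1)
  rw [← cancel_epi (S.trans (k + 1)), ← Category.assoc, trans_up, mul_trans]

/-- Multiplication by an element of the ideal on the graded pieces upstairs. -/
def T (k : ℕ) : (Scheme.Modules.pushforward (i (k + 1))).obj (S.P k) ⟶ S.P (k + 1) :=
  kernel.lift (S.trans (k + 1)) ((Scheme.Modules.pushforward (i (k + 1))).map (S.ι k) ≫ S.up ha k) (by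
    rw [Category.assoc, up_trans, ← Functor.map_comp, S.ι_mul k ha]
    exact LeadFF.hom_ext_sections _ _ fun W s => rfl)

theorem ι_T (k : ℕ) (W : (Xs (k + 2)).Opens) (x : Γ(S.P k, i (k + 1) ⁻¹ᵁ W)) :
    (S.ι (k + 1)).app W ((S.T ha k).app W x) = (S.up ha k).app W ((S.ι k).app (i (k + 1) ⁻¹ᵁ W) x) :=
  congr($(congrArg (fun φ => Scheme.Modules.Hom.app φ W)
    (kernel.lift_ι (S.trans (k + 1)) ((Scheme.Modules.pushforward (i (k + 1))).map (S.ι k) ≫ S.up ha k) _)) x)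

theorem T_comm {b : A} (hb : b ∈ J) (k : ℕ) {W : (Xs (k + 3)).Opens} (hW : IsAffineOpen W)
    (x : Γ(S.P k, i (k + 1) ⁻¹ᵁ (i (k + 2) ⁻¹ᵁ W))) :
    (S.T hb (k + 1)).app W ((S.T ha k).app (i (k + 2) ⁻¹ᵁ W) x) =
      (S.T ha (k + 1)).app W ((S.T hb k).app (i (k + 2) ⁻¹ᵁ W) x) := by
  refine S.ι_injective (k + 2) W ?_
  refine ((S.ι_T hb (k + 1) W _).trans (congrArg _ (S.ι_T ha k _ x))).trans ?_
  refine Eq.trans ?_ ((S.ι_T ha (k + 1) W _).trans (congrArg _ (S.ι_T hb k _ x))).symm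
  obtain ⟨y, hy⟩ := S.trans_surjective (k + 1) (S.affine_pre (k + 2) hW) ((S.ι k).app _ x)
  obtain ⟨w, hw⟩ := S.trans_surjective (k + 2) hW y
  rw [← hy, up_app, up_app, ← hw]
  have key : ∀ c : A, sc J p (k + 2) (i (k + 2) ⁻¹ᵁ W) c • (show Γ(S.F (k + 2), i (k + 2) ⁻¹ᵁ W) from (S.trans (k + 2)).app W w) =
      (S.trans (k + 2)).app W (sc J p (k + 3) W c • w) := by
    intro c
    rw [Scheme.Modules.Hom.app_smul, ← app_sc J p i S.cart (k + 2) W c]
    rfl
  rw [key, key, up_app, up_app, smul_smul, smul_smul, mul_comm]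

/-- The graded piece on the zeroth level. -/
def K (k : ℕ) : (Xs 0).Modules := (Scheme.Modules.pullback (jj i (k + 1))).obj (S.P k)

/-- Multiplication by an element of the ideal on the graded pieces. -/
def t (k : ℕ) : S.K k ⟶ S.K (k + 1) :=
  haveI := S.clI (k + 1)
  down (jj i (k + 1)) (i (k + 1)) (S.T ha k)

theorem t_pullSect (k : ℕ) (W : (Xs (k + 2)).Opens) (x : Γ(S.P k, i (k + 1) ⁻¹ᵁ W)) :
    (S.t ha k).app (jj i (k + 2) ⁻¹ᵁ W) (OmegaSh.pullSect (jj i (k + 1)) (S.P k) (i (k + 1) ⁻¹ᵁ W) x) =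
      OmegaSh.pullSect (jj i (k + 2)) (S.P (k + 1)) W ((S.T ha k).app W x) :=
  haveI := S.clI (k + 1)
  down_pullSect (jj i (k + 1)) (i (k + 1)) (S.T ha k) W x

variable [IsNoetherianRing A] (hp : IsProper (p 0))

include hp in
theorem bijective_pullSect_P (k : ℕ) (W : (Xs (k + 1)).Opens) :
    Function.Bijective (OmegaSh.pullSect (jj i (k + 1)) (S.P k) W) := by
  haveI := S.clJ (k + 1)
  exact bijective_pullSect_killed (S.isCoh_P hp k).1 (S.killed k) W

include hp in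
theorem t_comm {b : A} (hb : b ∈ J) (k : ℕ) : S.t ha k ≫ S.t hb (k + 1) = S.t hb k ≫ S.t ha (k + 1) := by
  refine LeadFF.hom_ext_affine _ _ fun U hU z => ?_
  haveI := S.clJ (k + 3)
  haveI := surjective_jj J p i S.cart (k + 3)
  obtain ⟨W, hW, rfl⟩ := exists_affine_preimage (jj i (k + 3)) hU
  obtain ⟨x, rfl⟩ := (S.bijective_pullSect_P hp k (i (k + 1) ⁻¹ᵁ (i (k + 2) ⁻¹ᵁ W))).2 z
  show (S.t hb (k + 1)).app (jj i (k + 3) ⁻¹ᵁ W) ((S.t ha k).app (jj i (k + 2) ⁻¹ᵁ (i (k + 2) ⁻¹ᵁ W)) _) =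
    (S.t ha (k + 1)).app (jj i (k + 3) ⁻¹ᵁ W) ((S.t hb k).app (jj i (k + 2) ⁻¹ᵁ (i (k + 2) ⁻¹ᵁ W)) _)
  rw [t_pullSect, t_pullSect, t_pullSect, t_pullSect, T_comm S ha hb k hW]

include hp in
theorem generated {r : ℕ} (g : Fin r → A) (hgJ : ∀ j, g j ∈ J) (hJ : J ≤ Ideal.span (Set.range g))
    (n : ℕ) {U : (Xs 0).Opens} (hU : IsAffineOpen U) :
    (⊤ : Submodule Γ(Xs 0, U) Γ(S.K (n + 1), U)) ≤
      ⨆ j, (⊤ : Submodule Γ(Xs 0, U) Γ(S.K n, U)).map (appLin (S.t (hgJ j) n) U) := by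
  intro e _
  haveI := S.clJ (n + 2)
  haveI := surjective_jj J p i S.cart (n + 2)
  obtain ⟨W, hW, rfl⟩ := exists_affine_preimage (jj i (n + 2)) hU
  obtain ⟨x, rfl⟩ := (S.bijective_pullSect_P hp (n + 1) W).2 e
  let Sp : Submodule Γ(Xs 0, jj i (n + 2) ⁻¹ᵁ W) Γ(S.K (n + 1), jj i (n + 2) ⁻¹ᵁ W) :=
    ⨆ j, (⊤ : Submodule _ Γ(S.K n, jj i (n + 2) ⁻¹ᵁ W)).map (appLin (S.t (hgJ j) n) (jj i (n + 2) ⁻¹ᵁ W))
  let Q : Submodule Γ(Xs (n + 2), W) Γ(S.F (n + 2), W) :=
    { carrier := {y | ∃ x, (S.ι (n + 1)).app W x = y ∧ OmegaSh.pullSect (jj i (n + 2)) (S.P (n + 1)) W x ∈ Sp}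
      add_mem' := by
        rintro _ _ ⟨x, rfl, hx⟩ ⟨y, rfl, hy⟩
        exact ⟨x + y, map_add _ x y, by rw [map_add]; exact Sp.add_mem hx hy⟩
      zero_mem' := ⟨0, map_zero _, by rw [map_zero]; exact Sp.zero_mem⟩
      smul_mem' := by
        rintro c _ ⟨x, rfl, hx⟩
        exact ⟨c • x, (S.ι (n + 1)).app_smul c x, by
          rw [OmegaSh.pullSect_smul]
          exact Sp.smul_mem _ hx⟩ }
  suffices hle : (J ^ (n + 1 + 1)).map (sc J p (n + 2) W) • (⊤ : Submodule Γ(Xs (n + 2), W) Γ(S.F (n + 2), W)) ≤ Q by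
    obtain ⟨x', hx', hmem⟩ := hle (S.mem_of_trans_eq_zero (n + 1) hW ((S.ι (n + 1)).app W x) (by
      show (S.ι (n + 1) ≫ S.trans (n + 1)).app W x = 0
      rw [ι_trans]
      rfl))
    exact S.ι_injective (n + 1) W hx' ▸ hmem
  rw [Submodule.smul_le]
  intro c hc z _
  induction hc using Submodule.span_induction with
  | zero => rw [zero_smul]; exact Q.zero_mem
  | add c c' _ _ h h' => rw [add_smul]; exact Q.add_mem h h'
  | smul e c _ h => rw [smul_eq_mul, mul_smul]; exact Q.smul_mem e h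
  | mem c hc =>
    obtain ⟨c, hc, rfl⟩ := hc
    rw [SetLike.mem_coe, pow_succ'] at hc
    induction hc using Submodule.mul_induction_on' with
    | add b b' _ _ h h' => rw [map_add, add_smul]; exact Q.add_mem h h'
    | mem_mul_mem a' ha' b' hb' =>
      have ha'' := hJ ha'
      clear ha'
      induction ha'' using Submodule.span_induction with
      | zero => rw [zero_mul, map_zero, zero_smul]; exact Q.zero_mem
      | add a₁ a₂ _ _ h h' => rw [add_mul, map_add, add_smul]; exact Q.add_mem h h'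
      | smul e a₁ _ h => rw [smul_eq_mul, mul_assoc, map_mul, mul_smul]; exact Q.smul_mem _ h
      | mem a₁ ha₁ =>
        obtain ⟨j, rfl⟩ := ha₁
        let v := (S.trans (n + 1)).app W (sc J p (n + 2) W b' • z)
        have hv : (S.trans n).app (i (n + 1) ⁻¹ᵁ W) v = 0 := by
          have e1 : v = sc J p (n + 1) (i (n + 1) ⁻¹ᵁ W) b' • (show Γ(S.F (n + 1), i (n + 1) ⁻¹ᵁ W) from (S.trans (n + 1)).app W z) := by
            show (S.trans (n + 1)).app W _ = _
            rw [Scheme.Modules.Hom.app_smul, ← app_sc J p i S.cart (n + 1) W b']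
            rfl
          rw [e1, Scheme.Modules.Hom.app_smul]
          show (i n).app (i (n + 1) ⁻¹ᵁ W) (sc J p (n + 1) _ b') •
            (show Γ(S.F n, i n ⁻¹ᵁ (i (n + 1) ⁻¹ᵁ W)) from
              (S.trans n).app (i (n + 1) ⁻¹ᵁ W) ((S.trans (n + 1)).app W z)) = _
          rw [app_sc J p i S.cart, sc_eq_zero J p hb', zero_smul]
          rfl
        obtain ⟨w, hw⟩ := LeadDev.exists_kernel_section (S.trans n) (i (n + 1) ⁻¹ᵁ W) v hv
        refine ⟨(S.T (hgJ j) n).app W w, ?_, ?_⟩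
        · rw [ι_T]
          refine (congrArg ((S.up (hgJ j) n).app W) hw).trans ?_
          rw [up_app, smul_smul, ← map_mul]
        · rw [← t_pullSect]
          exact le_iSup (fun j => (⊤ : Submodule _ Γ(S.K n, jj i (n + 2) ⁻¹ᵁ W)).map
            (appLin (S.t (hgJ j) n) (jj i (n + 2) ⁻¹ᵁ W))) j ⟨_, trivial, rfl⟩

include hp in
theorem noeAt_pieces {r : ℕ} (g : Fin r → A) (hgJ : ∀ j, g j ∈ J) (hJ : J ≤ Ideal.span (Set.range g))
    {U : (Xs 0).Opens} (hU : IsAffineOpen U) :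
    NoeAt (R := Γ(Xs 0, U)) (fun n => Γ(S.K n, U)) (fun j n => appLin (S.t (hgJ j) n) U) := by
  haveI := isNoetherian_level J p i S.cart hp 0
  haveI : IsNoetherianRing Γ(Xs 0, U) := IsLocallyNoetherian.component_noetherian ⟨U, hU⟩
  have hK : ∀ n, Coh.IsCoh (S.K n) := fun n => isCoh_pullback' _ (S.isCoh_P hp n)
  haveI : ∀ n, Module.Finite Γ(Xs 0, U) Γ(S.K n, U) := fun n =>
    ((isCoh_iff_finite_sections _).1 (hK n)).2 U hU
  refine noeAt_of_generated (fun j l n => ?_) 0 fun n _ => S.generated hp g hgJ hJ n hU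
  rw [← appLin_comp, ← appLin_comp, S.t_comm (hgJ j) hp (hgJ l) n]

theorem trans_shortExact (k : ℕ) : (ShortComplex.mk (S.ι k) (S.trans k) (S.ι_trans k)).ShortExact :=
  haveI := S.epi_trans k
  haveI : Mono (S.ι k) := inferInstanceAs (Mono (kernel.ι _))
  { exact := ShortComplex.exact_of_f_is_kernel _ (kernelIsKernel _) }

variable {L : (k : ℕ) → (Xs k).Modules} (hL : ∀ k, PicF.IsInvertible (L k))
  (φ : ∀ k, (Scheme.Modules.pullback (i k)).obj (L (k + 1)) ≅ L k)

/-- The invertible modules restrict to the zeroth one. -/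
def φj : ∀ k, (Scheme.Modules.pullback (jj i k)).obj (L k) ≅ L 0
  | 0 => (Scheme.Modules.pullbackId _).app _
  | k + 1 => ((Scheme.Modules.pullbackComp (jj i k) (i k)).app _).symm ≪≫
      (Scheme.Modules.pullback (jj i k)).mapIso (φ k) ≪≫ φj k

include hp hL φ in
/-- The graded pieces have uniformly vanishing twisted cohomology. -/
theorem exists_van (ha : CohB1.IsAmple (L 0)) :
    ∃ d₀, ∀ d, d₀ ≤ d → ∀ k, Van (L k) d (S.F k) ∧ Van (L (k + 1)) d (S.P k) := by
  haveI := hp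
  haveI := isNoetherian_level J p i S.cart hp 0
  have hv : ∀ M : (Xs 0).Modules, Coh.IsCoh M → ∃ d₀, ∀ d, d₀ ≤ d → Van (L 0) d M :=
    fun M hM => exists_vanishing_ample (p 0) ha M hM
  obtain ⟨r, g, hg⟩ := Submodule.fg_iff_exists_fin_generating_family.1 (IsNoetherian.noetherian J)
  have hgJ : ∀ j, g j ∈ J := fun j => hg ▸ Submodule.subset_span ⟨j, rfl⟩
  obtain ⟨d₁, h₁⟩ := exists_uniform_van (hL 0) hv r (fun n => S.K n)
    (fun n => isCoh_pullback' _ (S.isCoh_P hp n)) (fun j n => S.t (hgJ j) n)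
    (fun j l n => S.t_comm (hgJ j) hp (hgJ l) n) fun U hU => S.noeAt_pieces hp g hgJ hg.ge hU
  obtain ⟨d₀, h₀⟩ := hv (S.F 0) (S.coh 0)
  have hP : ∀ d, max d₀ d₁ ≤ d → ∀ k, Van (L (k + 1)) d (S.P k) := fun d hd k => by
    haveI := S.clJ (k + 1)
    haveI := LeadProper.isIso_unit_of_killedByIdeal (S.P k) (S.isCoh_P hp k).1 (jj i (k + 1)) (S.killed k)
    exact (Van.push (jj i (k + 1)) (hL (k + 1)) (φj φ (k + 1)) (isCoh_pullback' _ (S.isCoh_P hp k)).1
      (h₁ d ((le_max_right _ _).trans hd) k)).of_iso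
      (asIso ((Scheme.Modules.pullbackPushforwardAdjunction (jj i (k + 1))).unit.app (S.P k))).symm
  refine ⟨max d₀ d₁, fun d hd k => ⟨?_, hP d hd k⟩⟩
  induction k with
  | zero => exact h₀ d ((le_max_left _ _).trans hd)
  | succ k ih =>
    haveI := S.clI k
    have h3 : Van (L (k + 1)) d ((Scheme.Modules.pushforward (i k)).obj (S.F k)) :=
      Van.push (i k) (hL (k + 1)) (φ k) (S.coh k).1 ih
    exact Van.middle (S := ShortComplex.mk (S.ι k) (S.trans k) (S.ι_trans k)) (S.trans_shortExact k)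
      (hL (k + 1)) (hP d hd k) h3

end AdicSys

end Groth.Agent.LeadUV
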