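import Groth.Agent.LeadUV.Adic
import Groth.Agent.H28Contr.TwoCover
import Groth.Agent.S10945
import Groth.Agent.H11Ample.Global

/-!
# Uniform global generation on the levels of an adic system
-/

set_option autoImplicit false
set_option linter.style.haveILetI false
set_option linter.unusedSectionVars false

noncomputable section

universe u

open CategoryTheory CategoryTheory.Limits AlgebraicGeometry Opposite TopologicalSpace
open Groth.Agent.H11Tilde Groth.Agent.H11Ample

namespace Groth.Agent.LeadUV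

open Groth.Agent.H10Coh Groth.Agent.H10Coh.Tw

attribute [local instance 10000] H10Coh.hasSheafifyAb H10Coh.hasWeakSheafifyAb H10Coh.hasExtAb H10Coh.enoughInjAb

variable {X Y : Scheme.{u}}

/-- The restriction of a global section. -/
abbrev res (M : X.Modules) (U : X.Opens) (s : Γ(M, ⊤)) : Γ(M, U) :=
  M.presheaf.map (homOfLE (le_top : U ≤ ⊤)).op s

theorem app_res {M N : X.Modules} (f : M ⟶ N) (U : X.Opens) (s : Γ(M, ⊤)) :
    f.app U (res M U s) = res N U (f.app ⊤ s) :=
  congr($(f.mapPresheaf.naturality (homOfLE (le_top : U ≤ ⊤)).op) s)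

/-- Sections over affine opens are spanned by global ones. -/
def GGS (M : X.Modules) : Prop :=
  ∀ U : X.Opens, IsAffineOpen U → Submodule.span Γ(X, U) (Set.range (res M U)) = ⊤

theorem ggs_of_gg {M : X.Modules} (hM : Coh.IsQCoh M) (h : Curv2.IsGloballyGenerated M) : GGS M :=
  fun _ hU => H28Contr.span_global_eq_top M hM h hU

theorem gg_of_ggs {M : X.Modules} (h : GGS M) : Curv2.IsGloballyGenerated M :=
  H11Ample.isGloballyGenerated_of_locally M (id : Γ(M, ⊤) → Γ(M, ⊤)) fun W t x hx => by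
    obtain ⟨V, hV, hxV, hVW⟩ := exists_isAffineOpen_mem_and_subset hx
    exact ⟨V, hVW, hxV, (h V hV).ge Submodule.mem_top⟩

/-- Direct image along a closed immersion. -/
theorem ggs_push (g : Y ⟶ X) [IsClosedImmersion g] {M : Y.Modules} (h : GGS M) :
    GGS ((Scheme.Modules.pushforward g).obj M) := by
  intro U hU
  refine eq_top_iff.2 fun x _ => ?_
  have hx : (show Γ(M, g ⁻¹ᵁ U) from x) ∈ Submodule.span Γ(Y, g ⁻¹ᵁ U) (Set.range (res M (g ⁻¹ᵁ U))) :=
    (h _ (hU.preimage g)).ge Submodule.mem_top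
  let Q := Submodule.span Γ(X, U) (Set.range (res ((Scheme.Modules.pushforward g).obj M) U))
  suffices ∀ z ∈ Submodule.span Γ(Y, g ⁻¹ᵁ U) (Set.range (res M (g ⁻¹ᵁ U))),
      (show Γ((Scheme.Modules.pushforward g).obj M, U) from z) ∈ Q from this _ hx
  intro z hz
  induction hz using Submodule.span_induction with
  | mem z hz => obtain ⟨s, rfl⟩ := hz; exact Submodule.subset_span ⟨s, rfl⟩
  | zero => exact Q.zero_mem
  | add z z' _ _ h h' => exact Q.add_mem h h'
  | smul c z _ h =>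
    obtain ⟨c', rfl⟩ := g.app_surjective U hU c
    exact Q.smul_mem c' h

theorem gg_push (g : Y ⟶ X) [IsClosedImmersion g] {M : Y.Modules} (hM : Coh.IsQCoh M)
    (h : Curv2.IsGloballyGenerated M) : Curv2.IsGloballyGenerated ((Scheme.Modules.pushforward g).obj M) :=
  gg_of_ggs (ggs_push g (ggs_of_gg hM h))

theorem gg_of_iso {M N : X.Modules} (e : M ≅ N) (h : Curv2.IsGloballyGenerated M) :
    Curv2.IsGloballyGenerated N :=
  H11Ample.isGloballyGenerated_of_iso e h

theorem surjective_top_of_van {S : ShortComplex X.Modules} (hS : S.ShortExact)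
    (h : Subsingleton (HnM S.X₁ 1 ⊤)) : Function.Surjective (S.g.val.app (op ⊤)).hom :=
  surjective_app_of_subsingleton_HnM hS ⊤ h

namespace AdicSys

variable {A : Type u} [CommRing A] [IsNoetherianRing A] {J : Ideal A} {Xs : ℕ → Scheme.{u}}
  {p : (k : ℕ) → (Xs k ⟶ Spec (CommRingCat.of (A ⧸ J ^ (k + 1))))} {i : (k : ℕ) → (Xs k ⟶ Xs (k + 1))}
  (S : AdicSys J p i) (hp : IsProper (p 0))

include hp in
theorem ggs_succ {r : ℕ} (g : Fin r → A) (hgJ : ∀ j, g j ∈ J) (hJ : J ≤ Ideal.span (Set.range g))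
    {E : (Xs 0).Modules} (hE : PicF.IsInvertible E) (n : ℕ)
    (h : GGS (CohB1.tensorMod (S.K n) E)) : GGS (CohB1.tensorMod (S.K (n + 1)) E) := by
  let σ : (⨁ fun _ : Fin r => S.K n) ⟶ S.K (n + 1) := biproduct.desc fun j => S.t (hgJ j) n
  haveI hσ : Epi σ := by
    refine H10Coh.epi_of_surjective_on_cover σ (isCoh_pullback' _ (S.isCoh_P hp (n + 1))).1
      (fun U : (Xs 0).affineOpens => U.1) (fun U => U.2)
      (fun x => by
        obtain ⟨W, hW, hx, -⟩ := exists_isAffineOpen_mem_and_subset (U := (⊤ : (Xs 0).Opens)) (x := x) trivial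
        exact ⟨⟨W, hW⟩, hx⟩) fun U => ⟨⋃ j, Set.range ((S.t (hgJ j) n).app U.1), ?_, ?_⟩
    · refine eq_top_iff.2 ((S.generated hp g hgJ hJ n U.2).trans (iSup_le fun j => ?_))
      rintro _ ⟨y, -, rfl⟩
      exact Submodule.subset_span (Set.mem_iUnion.2 ⟨j, y, rfl⟩)
    · intro z hz
      obtain ⟨j, y, rfl⟩ := Set.mem_iUnion.1 hz
      exact ⟨(biproduct.ι (fun _ : Fin r => S.K n) j).app U.1 y,
        congr($(congrArg (fun φ => Scheme.Modules.Hom.app φ U.1)
          (biproduct.ι_desc (fun j => S.t (hgJ j) n) j)) y)⟩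
  intro U hU
  haveI := epi_map σ hE
  haveI : (CohB1.tensorMod (⨁ fun _ : Fin r => S.K n) E).IsQuasicoherent := by
    haveI : (S.K n).IsQuasicoherent := (isCoh_pullback' _ (S.isCoh_P hp n)).1
    exact H11Ample.isQCoh_tensor (H10Coh.isQuasicoherent_biproduct fun _ : Fin r => S.K n) hE
  haveI : (CohB1.tensorMod (S.K (n + 1)) E).IsQuasicoherent :=
    H11Ample.isQCoh_tensor (isCoh_pullback' _ (S.isCoh_P hp (n + 1))).1 hE
  refine eq_top_iff.2 fun z _ => ?_
  obtain ⟨x, rfl⟩ := surjective_app_of_epi (LimSh.tensorModMap σ E) hU z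
  let M := fun _ : Fin r => S.K n
  let P := appLin (LimSh.tensorModMap σ E) U
  have hsum : ∑ j, LimSh.tensorModMap (biproduct.π M j) E ≫ LimSh.tensorModMap (biproduct.ι M j) E =
      𝟙 (CohB1.tensorMod (⨁ M) E) := by
    rw [← LimSh.tensorModMap_id]
    refine Eq.trans ?_ (congrArg (fun φ => LimSh.tensorModMap φ E) (biproduct.total (f := M)))
    refine Eq.trans ?_ (map_sum (mapHom (⨁ M) (⨁ M) hE) _ _).symm
    exact Finset.sum_congr rfl fun j _ => (LimSh.tensorModMap_comp _ _ _).symm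
  let Q := Submodule.span Γ(Xs 0, U) (Set.range (res (CohB1.tensorMod (S.K (n + 1)) E) U))
  show P x ∈ Q
  have hx : x = ∑ j, (appLin (LimSh.tensorModMap (biproduct.ι M j) E) U)
      ((appLin (LimSh.tensorModMap (biproduct.π M j) E) U) x) :=
    ((H10Coh.app_sum_apply _ U x).symm.trans (congr($(congrArg (fun φ => Scheme.Modules.Hom.app φ U) hsum) x))).symm
  rw [hx, map_sum]
  refine Q.sum_mem fun j _ => ?_
  generalize (appLin (LimSh.tensorModMap (biproduct.π M j) E) U) x = y
  let R := P ∘ₗ appLin (LimSh.tensorModMap (biproduct.ι M j) E) U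
  have hR : (⊤ : Submodule Γ(Xs 0, U) Γ(CohB1.tensorMod (S.K n) E, U)).map R ≤ Q := by
    rw [← h U hU, Submodule.map_span, Submodule.span_le]
    rintro _ ⟨_, ⟨s, rfl⟩, rfl⟩
    refine Submodule.subset_span ⟨(LimSh.tensorModMap (biproduct.ι M j) E ≫ LimSh.tensorModMap σ E).app ⊤ s, ?_⟩
    exact (app_res (LimSh.tensorModMap (biproduct.ι M j) E ≫ LimSh.tensorModMap σ E) U s).symm
  exact hR ⟨y, trivial, rfl⟩

variable {L : (k : ℕ) → (Xs k).Modules} (hL : ∀ k, PicF.IsInvertible (L k))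
  (φ : ∀ k, (Scheme.Modules.pullback (i k)).obj (L (k + 1)) ≅ L k)

theorem nonempty_push_twist {Z W : Scheme.{u}} (g : Z ⟶ W) (M : Z.Modules) {N : Z.Modules} {N' : W.Modules}
    (hN' : PicF.IsInvertible N') (e : (Scheme.Modules.pullback g).obj N' ≅ N) (d : ℕ) :
    Nonempty (CohB1.tensorMod ((Scheme.Modules.pushforward g).obj M) (CohB1.tensorPow N' d) ≅
      (Scheme.Modules.pushforward g).obj (CohB1.tensorMod M (CohB1.tensorPow N d))) := by
  obtain ⟨e₂⟩ := nonempty_push_tensor_iso g M (isInvertible_tensorPow hN' d)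
  obtain ⟨e₃⟩ := exists_iso_pullback_tensorPow g hN' d
  exact ⟨e₂ ≪≫ (Scheme.Modules.pushforward g).mapIso
    (PicGrp.tensorModIso (Iso.refl M) (e₃ ≪≫ tensorPowIso e d))⟩

include hp hL φ in
/-- The twists are globally generated on every level. -/
theorem exists_gg (ha : CohB1.IsAmple (L 0)) :
    ∃ N, ∀ d, N ≤ d → ∀ k, Curv2.IsGloballyGenerated (CohB1.tensorMod (S.F k) (CohB1.tensorPow (L k) d)) := by
  haveI := hp
  haveI := isNoetherian_level J p i S.cart hp 0
  obtain ⟨r, g, hg⟩ := Submodule.fg_iff_exists_fin_generating_family.1 (IsNoetherian.noetherian J)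
  have hgJ : ∀ j, g j ∈ J := fun j => hg ▸ Submodule.subset_span ⟨j, rfl⟩
  obtain ⟨d₀, h₀⟩ := S.exists_van hp hL φ ha
  obtain ⟨d₁, h₁⟩ := H11Ample.eventually_globallyGenerated ha (S.coh 0)
  obtain ⟨d₂, h₂⟩ := H11Ample.eventually_globallyGenerated ha (isCoh_pullback' (jj i 1) (S.isCoh_P hp 0))
  refine ⟨max d₀ (max d₁ d₂), fun d hd => ?_⟩
  have hd₀ := (le_max_left _ _).trans hd
  have hd₁ := ((le_max_left _ _).trans (le_max_right _ _)).trans hd
  have hd₂ := ((le_max_right _ _).trans (le_max_right _ _)).trans hd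
  have hE := isInvertible_tensorPow (hL 0) d
  have hKq : ∀ n, Coh.IsQCoh (CohB1.tensorMod (S.K n) (CohB1.tensorPow (L 0) d)) := fun n =>
    H11Ample.isQCoh_tensor (isCoh_pullback' _ (S.isCoh_P hp n)).1 hE
  have hK : ∀ n, GGS (CohB1.tensorMod (S.K n) (CohB1.tensorPow (L 0) d)) := fun n => by
    induction n with
    | zero => exact ggs_of_gg (hKq 0) (h₂ d hd₂)
    | succ n ih => exact S.ggs_succ hp g hgJ hg.ge hE n ih
  intro k
  induction k with
  | zero => exact h₁ d hd₁
  | succ k ih =>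
    haveI := S.clI k
    haveI := S.clJ (k + 1)
    haveI := LeadProper.isIso_unit_of_killedByIdeal (S.P k) (S.isCoh_P hp k).1 (jj i (k + 1)) (S.killed k)
    have hLd := isInvertible_tensorPow (hL (k + 1)) d
    obtain ⟨eK⟩ := nonempty_push_twist (jj i (k + 1)) (S.K k) (hL (k + 1)) (φj φ (k + 1)) d
    obtain ⟨eF⟩ := nonempty_push_twist (i k) (S.F k) (hL (k + 1)) (φ k) d
    have hP : Curv2.IsGloballyGenerated (CohB1.tensorMod (S.P k) (CohB1.tensorPow (L (k + 1)) d)) :=
      gg_of_iso (eK.symm ≪≫ (PicGrp.tensorModIso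
        (asIso ((Scheme.Modules.pullbackPushforwardAdjunction (jj i (k + 1))).unit.app (S.P k))).symm (Iso.refl _)))
        (gg_of_ggs (ggs_push (jj i (k + 1)) (hK k)))
    have hQ : Curv2.IsGloballyGenerated
        (CohB1.tensorMod ((Scheme.Modules.pushforward (i k)).obj (S.F k)) (CohB1.tensorPow (L (k + 1)) d)) :=
      gg_of_iso eF.symm (gg_push (i k) (H11Ample.isQCoh_tensor (S.coh k).1 (isInvertible_tensorPow (hL k) d)) ih)
    have hs := shortExact_seq (S.trans_shortExact k) hLd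
    exact S10945.result _ (seq (ShortComplex.mk (S.ι k) (S.trans k) (S.ι_trans k)) hLd) hs
      (surjective_top_of_van hs ((h₀ d hd₀ k).2 1 Nat.one_pos)) hP hQ

end AdicSys

end Groth.Agent.LeadUV
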