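import Groth.Agent.H24FSch.Kernels
import Groth.Agent.H24FSch.Levels
import Groth.Agent.H24Formal.SectionSystem

/-!
# Ideals of thickenings cut out by an ideal of the base
-/

set_option autoImplicit false
set_option linter.style.haveILetI false

noncomputable section

universe u

open CategoryTheory CategoryTheory.Limits AlgebraicGeometry Opposite TopologicalSpace

namespace Groth.Agent.LeadUV

open Groth.Agent.H24Formal

variable {A B B' : Type u} [CommRing A] [CommRing B] [CommRing B'] {X X' : Scheme.{u}}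
  [X.Over (Spec (CommRingCat.of A))]

/-- The ideal of a base change of a closed immersion of affine schemes over `Spec A`. -/
theorem ker_ideal_of_pullback (φ : A →+* B) (ψ : B →+* B') (hψ : Function.Surjective ψ) {I : Ideal A}
    (hI : RingHom.ker ψ = I.map φ) {i : X' ⟶ X} {p' : X' ⟶ Spec (CommRingCat.of B')}
    {p : X ⟶ Spec (CommRingCat.of B)} (sq : IsPullback i p' p (Spec.map (CommRingCat.ofHom ψ)))
    (hp : p ≫ Spec.map (CommRingCat.ofHom φ) = X ↘ Spec (CommRingCat.of A)) (U : X.affineOpens) :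
    i.ker.ideal U = I.map (scalA A U.1) := by
  haveI : IsClosedImmersion (Spec.map (CommRingCat.ofHom ψ)) := IsClosedImmersion.spec_of_surjective _ hψ
  rw [H24FSch.ker_of_isPullback sq, H24FSch.ker_specMap_of_surjective ψ hψ, hI,
    H29Blow.ideal_comap _ p ⟨⊤, isAffineOpen_top _⟩ U (fun _ _ => trivial), H24FSch.idealSpec_ideal_top,
    Ideal.map_map, Ideal.map_map]
  refine congrArg (fun s => Ideal.map s I) (RingHom.ext fun a => ?_)
  show p.appLE ⊤ U.1 _ ((Scheme.ΓSpecIso (CommRingCat.of B)).inv (φ a)) =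
    X.presheaf.map (homOfLE (le_top : U.1 ≤ ⊤)).op (Coh.toGlobal (X ↘ Spec (CommRingCat.of A)) a)
  rw [← hp]
  show _ = X.presheaf.map (homOfLE (le_top : U.1 ≤ ⊤)).op
    ((p ≫ Spec.map (CommRingCat.ofHom φ)).appTop ((Scheme.ΓSpecIso (CommRingCat.of A)).inv a))
  rw [Scheme.Hom.comp_appTop, CommRingCat.comp_apply]
  have h := ConcreteCategory.congr_hom (Scheme.ΓSpecIso_inv_naturality (CommRingCat.ofHom φ)) a
  exact congrArg (fun z => X.presheaf.map (homOfLE (le_top : U.1 ≤ ⊤)).op (p.appTop z)) h

end Groth.Agent.LeadUV
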