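import Groth.Agent.LeadUV.Step
import Groth.Agent.LeadUV.Ideals
import Groth.Agent.H24FSch.Descend
import Groth.Agent.LeadFF.Geom
import Groth.Agent.H29Fitt.PullbackQCoh

/-!
# The levels of an adic system of schemes
-/

set_option autoImplicit false
set_option linter.style.haveILetI false
set_option linter.unusedSectionVars false

noncomputable section

universe u

open CategoryTheory CategoryTheory.Limits AlgebraicGeometry Opposite TopologicalSpace

namespace Groth.Agent.LeadUV

attribute [local instance 10000] H10Coh.hasSheafifyAb H10Coh.hasWeakSheafifyAb H10Coh.hasExtAb H10Coh.enoughInjAb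

variable {A : Type u} [CommRing A] (J : Ideal A) {Xs : ℕ → Scheme.{u}}
  (p : (k : ℕ) → (Xs k ⟶ Spec (CommRingCat.of (A ⧸ J ^ (k + 1))))) (i : (k : ℕ) → (Xs k ⟶ Xs (k + 1)))

/-- The embedding of the zeroth level. -/
def jj : ∀ k, Xs 0 ⟶ Xs k
  | 0 => 𝟙 _
  | k + 1 => jj k ≫ i k

/-- The map of the bases. -/
abbrev qq (k : ℕ) : (A ⧸ J ^ (k + 1)) →+* (A ⧸ J ^ (0 + 1)) :=
  Ideal.Quotient.factor (Ideal.pow_le_pow_right (Nat.succ_le_succ (Nat.zero_le k)))

/-- A constant as a global function on a level. -/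
def gl (k : ℕ) : A →+* Γ(Xs k, ⊤) := Coh.toGlobal (p k ≫ CohB1.specQuot J k)

/-- A constant on an open of a level. -/
def sc (k : ℕ) (U : (Xs k).Opens) : A →+* Γ(Xs k, U) :=
  ((Xs k).presheaf.map (homOfLE (le_top : U ≤ ⊤)).op).hom.comp (gl J p k)

theorem gl_eq_zero {k : ℕ} {a : A} (ha : a ∈ J ^ (k + 1)) : gl J p k a = 0 := by
  show (p k ≫ CohB1.specQuot J k).appTop ((Scheme.ΓSpecIso (CommRingCat.of A)).inv a) = 0
  rw [Scheme.Hom.comp_appTop, CommRingCat.comp_apply]
  have h := ConcreteCategory.congr_hom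
    (Scheme.ΓSpecIso_inv_naturality (CommRingCat.ofHom (Ideal.Quotient.mk (J ^ (k + 1))))) a
  refine (congrArg (p k).appTop h.symm).trans ?_
  show (p k).appTop ((Scheme.ΓSpecIso _).inv (Ideal.Quotient.mk (J ^ (k + 1)) a)) = 0
  rw [Ideal.Quotient.eq_zero_iff_mem.2 ha, map_zero, map_zero]

theorem sc_eq_zero {k : ℕ} {a : A} (ha : a ∈ J ^ (k + 1)) (U : (Xs k).Opens) : sc J p k U a = 0 := by
  show (Xs k).presheaf.map _ (gl J p k a) = 0
  rw [gl_eq_zero J p ha, map_zero]

theorem map_sc_eq_bot {k : ℕ} {I : Ideal A} (hI : I ≤ J ^ (k + 1)) (U : (Xs k).Opens) : I.map (sc J p k U) = ⊥ :=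
  (Ideal.map_eq_bot_iff_le_ker _).2 fun _ ha => sc_eq_zero J p (hI ha) U

theorem sc_res {k : ℕ} {U V : (Xs k).Opens} (h : V ≤ U) (a : A) :
    (Xs k).presheaf.map (homOfLE h).op (sc J p k U a) = sc J p k V a := by
  show (Xs k).presheaf.map _ ((Xs k).presheaf.map _ (gl J p k a)) = (Xs k).presheaf.map _ (gl J p k a)
  rw [← ConcreteCategory.comp_apply, ← CategoryTheory.Functor.map_comp]
  rfl

variable (hcart : ∀ k, IsPullback (i k) (p k) (p (k + 1)) (CohB1.specQuotTrans J k))

include hcart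

theorem app_sc (k : ℕ) (U : (Xs (k + 1)).Opens) (a : A) :
    (i k).app U (sc J p (k + 1) U a) = sc J p k (i k ⁻¹ᵁ U) a := by
  have e : i k ≫ p (k + 1) ≫ CohB1.specQuot J (k + 1) = p k ≫ CohB1.specQuot J k := by
    rw [← Category.assoc, (hcart k).w, Category.assoc, CohB1.specQuotTrans_specQuot]
  have h1 : (i k).appTop (gl J p (k + 1) a) = gl J p k a := by
    show (i k).appTop ((p (k + 1) ≫ CohB1.specQuot J (k + 1)).appTop _) =
      (p k ≫ CohB1.specQuot J k).appTop _
    rw [← e, Scheme.Hom.comp_appTop (i k)]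
    rfl
  show (i k).app U ((Xs (k + 1)).presheaf.map _ (gl J p (k + 1) a)) = _
  rw [← ConcreteCategory.comp_apply, Scheme.Hom.naturality]
  exact congrArg _ h1

theorem isPullback_jj : ∀ k, IsPullback (jj i k) (p 0) (p k) (Spec.map (CommRingCat.ofHom (qq J k)))
  | 0 => by
    have : qq J 0 = RingHom.id _ := RingHom.ext fun x => by
      obtain ⟨a, rfl⟩ := Ideal.Quotient.mk_surjective x
      rfl
    rw [this, show Spec.map (CommRingCat.ofHom (RingHom.id (A ⧸ J ^ (0 + 1)))) = 𝟙 _ from Spec.map_id _]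
    haveI : IsIso (jj i 0) := inferInstanceAs (IsIso (𝟙 (Xs 0)))
    exact IsPullback.of_horiz_isIso ⟨by simp [jj]⟩
  | k + 1 => by
    have h := (isPullback_jj k).paste_horiz (hcart k)
    have e : Spec.map (CommRingCat.ofHom (qq J k)) ≫ CohB1.specQuotTrans J k =
        Spec.map (CommRingCat.ofHom (qq J (k + 1))) := by
      rw [CohB1.specQuotTrans, ← Spec.map_comp, ← CommRingCat.ofHom_comp]
      refine congrArg (fun z => Spec.map (CommRingCat.ofHom z)) (RingHom.ext fun x => ?_)
      obtain ⟨a, rfl⟩ := Ideal.Quotient.mk_surjective x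
      rfl
    rwa [e] at h

theorem isClosedImmersion_i (k : ℕ) : IsClosedImmersion (i k) := by
  haveI : IsClosedImmersion (CohB1.specQuotTrans J k) :=
    IsClosedImmersion.spec_of_surjective _ (Ideal.Quotient.factor_surjective (Ideal.pow_le_pow_right (Nat.le_succ (k + 1))))
  exact MorphismProperty.of_isPullback (hcart k).flip ‹IsClosedImmersion (CohB1.specQuotTrans J k)›

theorem isClosedImmersion_jj (k : ℕ) : IsClosedImmersion (jj i k) := by
  haveI : IsClosedImmersion (Spec.map (CommRingCat.ofHom (qq J k))) :=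
    IsClosedImmersion.spec_of_surjective _
      (Ideal.Quotient.factor_surjective (Ideal.pow_le_pow_right (Nat.succ_le_succ (Nat.zero_le k))))
  exact MorphismProperty.of_isPullback (isPullback_jj J p i hcart k).flip
    ‹IsClosedImmersion (Spec.map (CommRingCat.ofHom (qq J k)))›

theorem surjective_specMap_qq (k : ℕ) : Surjective (Spec.map (CommRingCat.ofHom (qq J k))) := by
  refine ⟨fun P => ?_⟩
  have hker : RingHom.ker (qq J k) ≤ (show PrimeSpectrum (A ⧸ J ^ (k + 1)) from P).asIdeal := fun x hx => by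
    obtain ⟨a, rfl⟩ := Ideal.Quotient.mk_surjective x
    have ha : a ∈ J ^ (0 + 1) := Ideal.Quotient.eq_zero_iff_mem.1 hx
    rw [zero_add, pow_one] at ha
    refine (show PrimeSpectrum (A ⧸ J ^ (k + 1)) from P).isPrime.mem_of_pow_mem (k + 1) ?_
    rw [← map_pow, Ideal.Quotient.eq_zero_iff_mem.2 (Ideal.pow_mem_pow ha (k + 1))]
    exact Ideal.zero_mem _
  have hr := range_comap_of_surjective (A ⧸ J ^ (0 + 1)) (qq J k)
    (Ideal.Quotient.factor_surjective _)
  exact (hr.ge ((PrimeSpectrum.mem_zeroLocus _ _).2 hker) :)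

theorem surjective_jj (k : ℕ) : Surjective (jj i k) := by
  haveI := surjective_specMap_qq J p i hcart k
  exact MorphismProperty.of_isPullback (isPullback_jj J p i hcart k).flip
    ‹Surjective (Spec.map (CommRingCat.ofHom (qq J k)))›

theorem isProper_level [IsNoetherianRing A] (hp : IsProper (p 0)) (k : ℕ) : IsProper (p k) := by
  haveI := hp
  haveI : IsClosedImmersion (Spec.map (CommRingCat.ofHom (qq J k))) :=
    IsClosedImmersion.spec_of_surjective _
      (Ideal.Quotient.factor_surjective (Ideal.pow_le_pow_right (Nat.succ_le_succ (Nat.zero_le k))))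
  haveI := surjective_specMap_qq J p i hcart k
  exact H24FSch.isProper_of_thickening (isPullback_jj J p i hcart k)

theorem isNoetherian_level [IsNoetherianRing A] (hp : IsProper (p 0)) (k : ℕ) : IsNoetherian (Xs k) := by
  haveI := isProper_level J p i hcart hp k
  haveI : IsLocallyNoetherian (Xs k) := LocallyOfFiniteType.isLocallyNoetherian (p k)
  haveI : CompactSpace (Xs k) := QuasiCompact.compactSpace_of_compactSpace (p k)
  exact {}

/-- The ideal of the previous level. -/
theorem ker_i_ideal (k : ℕ) (U : (Xs (k + 1)).affineOpens) :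
    (i k).ker.ideal U = (J ^ (k + 1)).map (sc J p (k + 1) U.1) := by
  letI : (Xs (k + 1)).Over (Spec (CommRingCat.of A)) := ⟨p (k + 1) ≫ CohB1.specQuot J (k + 1)⟩
  exact ker_ideal_of_pullback (Ideal.Quotient.mk (J ^ (k + 1 + 1))) _ (Ideal.Quotient.factor_surjective _)
    (Ideal.Quotient.factor_ker _) (hcart k) rfl U

/-- The ideal of the zeroth level. -/
theorem ker_jj_ideal (k : ℕ) (U : (Xs k).affineOpens) :
    (jj i k).ker.ideal U = J.map (sc J p k U.1) := by
  letI : (Xs k).Over (Spec (CommRingCat.of A)) := ⟨p k ≫ CohB1.specQuot J k⟩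
  exact ker_ideal_of_pullback (Ideal.Quotient.mk (J ^ (k + 1))) _ (Ideal.Quotient.factor_surjective _)
    ((Ideal.Quotient.factor_ker _).trans (congrArg (Ideal.map _) (by rw [zero_add, pow_one])))
    (isPullback_jj J p i hcart k) rfl U

end Groth.Agent.LeadUV
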