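import Groth.Agent.LeadUV.Vanish
import Groth.Agent.H24Formal.SectionSystem

/-!
# The kernels of a coherent formal module form a graded family generated by the ideal
-/

set_option autoImplicit false
set_option linter.style.haveILetI false
set_option linter.unusedSectionVars false

noncomputable section

universe u

open CategoryTheory CategoryTheory.Limits AlgebraicGeometry Opposite TopologicalSpace

namespace Groth.Agent.LeadUV

open Groth.Agent.H10Coh Groth.Agent.H10Coh.Tw Groth.Agent.H24Formal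

attribute [local instance 10000] H10Coh.hasSheafifyAb H10Coh.hasWeakSheafifyAb H10Coh.hasExtAb H10Coh.enoughInjAb

variable {A : Type u} [CommRing A] {X : Scheme.{u}} [X.Over (Spec (CommRingCat.of A))] {I : Ideal A}
  {G : ℕᵒᵖ ⥤ X.Modules} (hG : Formal.IsCohFormal I G)

/-- The transition map. -/
abbrev tr (G : ℕᵒᵖ ⥤ X.Modules) (n : ℕ) : G.obj (op (n + 1)) ⟶ G.obj (op n) := G.map (homOfLE (Nat.le_succ n)).op

include hG in
theorem exists_mulUp (a : A) (ha : a ∈ I) (n : ℕ) :
    ∃ m : G.obj (op (n + 1)) ⟶ G.obj (op (n + 2)),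
      tr G (n + 1) ≫ m = Formal.smulMod A (G.obj (op (n + 2))) a := by
  refine (epi_and_factor hG (Nat.le_succ (n + 1))).2 _ ?_
  refine Sigma.hom_ext _ _ fun b => ?_
  rw [Formal.smulFamily, Sigma.ι_desc_assoc, comp_zero, H24Formal.smulMod_mul]
  refine hG.2.1 (n + 2) _ ?_
  rw [show n + 2 + 1 = (n + 1 + 1) + 1 from rfl, pow_succ']
  exact Ideal.mul_mem_mul ha b.2

variable {a : A} (ha : a ∈ I)

/-- Multiplication by an element of the ideal, one level up. -/
def mulUp (n : ℕ) : G.obj (op (n + 1)) ⟶ G.obj (op (n + 2)) := (exists_mulUp hG a ha n).choose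

theorem tr_mulUp (n : ℕ) : tr G (n + 1) ≫ mulUp hG ha n = Formal.smulMod A (G.obj (op (n + 2))) a :=
  (exists_mulUp hG a ha n).choose_spec

theorem mulUp_tr (n : ℕ) : mulUp hG ha n ≫ tr G (n + 1) = Formal.smulMod A (G.obj (op (n + 1))) a := by
  haveI := (epi_and_factor hG (Nat.le_succ (n + 1))).1
  rw [← cancel_epi (tr G (n + 1)), ← Category.assoc, tr_mulUp, H24Formal.smulMod_comm]

include hG ha in
theorem ι_smulMod (n : ℕ) : kernel.ι (tr G n) ≫ Formal.smulMod A (G.obj (op (n + 1))) a = 0 := by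
  obtain ⟨g, hg⟩ := (epi_and_factor hG (Nat.le_succ n)).2 (Formal.smulMod A (G.obj (op (n + 1))) a) (by
    refine Sigma.hom_ext _ _ fun b => ?_
    rw [Formal.smulFamily, Sigma.ι_desc_assoc, comp_zero, H24Formal.smulMod_mul]
    refine hG.2.1 (n + 1) _ ?_
    rw [pow_succ']
    exact Ideal.mul_mem_mul ha b.2)
  rw [← hg, ← Category.assoc, kernel.condition, Limits.zero_comp]

/-- Multiplication by an element of the ideal on the graded pieces. -/
def grMul (n : ℕ) : kernel (tr G n) ⟶ kernel (tr G (n + 1)) :=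
  kernel.lift (tr G (n + 1)) (kernel.ι (tr G n) ≫ mulUp hG ha n) (by
    rw [Category.assoc, mulUp_tr, ι_smulMod hG ha n])

theorem grMul_ι (n : ℕ) : grMul hG ha n ≫ kernel.ι (tr G (n + 1)) = kernel.ι (tr G n) ≫ mulUp hG ha n :=
  kernel.lift_ι _ _ _

theorem mulUp_comm {b : A} (hb : b ∈ I) (n : ℕ) :
    mulUp hG ha n ≫ mulUp hG hb (n + 1) = mulUp hG hb n ≫ mulUp hG ha (n + 1) := by
  haveI := (epi_and_factor hG (Nat.le_succ (n + 1))).1
  haveI := (epi_and_factor hG (Nat.le_succ (n + 2))).1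
  have key : ∀ {a b : A} (ha : a ∈ I) (hb : b ∈ I),
      tr G (n + 2) ≫ tr G (n + 1) ≫ mulUp hG ha n ≫ mulUp hG hb (n + 1) =
        Formal.smulMod A (G.obj (op (n + 3))) (a * b) := by
    intro a b ha hb
    rw [← Category.assoc (tr G (n + 1)), tr_mulUp, H24Formal.smulMod_comm, ← Category.assoc,
      tr_mulUp hG hb (n + 1), H24Formal.smulMod_mul]
  rw [← cancel_epi (tr G (n + 1)), ← cancel_epi (tr G (n + 2)), key ha hb, key hb ha, mul_comm]

theorem grMul_comm {b : A} (hb : b ∈ I) (n : ℕ) :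
    grMul hG ha n ≫ grMul hG hb (n + 1) = grMul hG hb n ≫ grMul hG ha (n + 1) := by
  rw [← cancel_mono (kernel.ι (tr G (n + 1 + 1))), Category.assoc, Category.assoc, grMul_ι, grMul_ι,
    ← Category.assoc, ← Category.assoc, grMul_ι, grMul_ι, Category.assoc, Category.assoc, mulUp_comm hG ha hb n]

variable [IsNoetherian X]

include hG in
theorem noeAt_kernels {r : ℕ} (g : Fin r → A) (hgI : ∀ i, g i ∈ I) (hI : I ≤ Ideal.span (Set.range g)) (hfg : I.FG)
    {U : X.Opens} (hU : IsAffineOpen U) :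
    NoeAt (R := Γ(X, U)) (fun n => Γ(kernel (tr G n), U)) (fun i n => appLin (grMul hG (hgI i) n) U) := by
  have hK : ∀ n, Coh.IsCoh (kernel (tr G n)) := fun n => isCoh_kernel _ (hG.1 (n + 1)) (hG.1 n).1
  haveI : IsNoetherianRing Γ(X, U) := IsLocallyNoetherian.component_noetherian ⟨U, hU⟩
  haveI : ∀ n, Module.Finite Γ(X, U) Γ(kernel (tr G n), U) := fun n =>
    ((isCoh_iff_finite_sections _).1 (hK n)).2 U hU
  refine noeAt_of_generated (fun i j n => ?_) 0 fun n _ x _ => ?_
  · rw [← appLin_comp, ← appLin_comp, grMul_comm hG (hgI i) (hgI j) n]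
  let T : Submodule Γ(X, U) Γ(kernel (tr G (n + 1)), U) :=
    ⨆ i, (⊤ : Submodule Γ(X, U) Γ(kernel (tr G n), U)).map (appLin (grMul hG (hgI i) n) U)
  let ι₁ := appLin (kernel.ι (tr G (n + 1))) U
  let W : Submodule A (SecMod A (G.obj (op (n + 2))) U) :=
    { carrier := {y | ∃ x ∈ T, ι₁ x = y}
      add_mem' := by
        rintro _ _ ⟨x, hx, rfl⟩ ⟨y, hy, rfl⟩
        exact ⟨x + y, T.add_mem hx hy, map_add ι₁ x y⟩
      zero_mem' := ⟨0, T.zero_mem, map_zero ι₁⟩
      smul_mem' := by
        rintro c _ ⟨x, hx, rfl⟩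
        exact ⟨scalA A U c • x, T.smul_mem _ hx, map_smul ι₁ _ x⟩ }
  have hle : I ^ (n + 1 + 1) • (⊤ : Submodule A (SecMod A (G.obj (op (n + 2))) U)) ≤ W := by
    rw [Submodule.smul_le]
    intro b hb z _
    rw [pow_succ] at hb
    induction hb using Submodule.mul_induction_on' with
    | mem_mul_mem b' hb' a' ha' =>
      have ha'' := hI ha'
      clear ha'
      induction ha'' using Submodule.span_induction with
      | mem c hc =>
        obtain ⟨i, rfl⟩ := hc
        let τz := (tr G (n + 1)).app U (Formal.smulMod A (G.obj (op (n + 2))) b' |>.app U z)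
        have hτ : (tr G n).app U τz = 0 := by
          show (Formal.smulMod A (G.obj (op (n + 2))) b' ≫ tr G (n + 1) ≫ tr G n).app U z = 0
          rw [← Category.assoc, H24Formal.smulMod_comm, Category.assoc, H24Formal.smulMod_comm,
            hG.2.1 n b' hb', comp_zero, comp_zero]
          rfl
        obtain ⟨w, hw⟩ := exists_kernel_section (tr G n) U τz hτ
        refine ⟨appLin (grMul hG (hgI i) n) U w, le_iSup (fun i => (⊤ : Submodule Γ(X, U)
          Γ(kernel (tr G n), U)).map (appLin (grMul hG (hgI i) n) U)) i ⟨w, trivial, rfl⟩, ?_⟩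
        show (grMul hG (hgI i) n ≫ kernel.ι (tr G (n + 1))).app U w = _
        rw [grMul_ι]
        refine (congrArg ((mulUp hG (hgI i) n).app U) hw).trans ?_
        show (tr G (n + 1) ≫ mulUp hG (hgI i) n).app U ((Formal.smulMod A (G.obj (op (n + 2))) b').app U z) = _
        rw [tr_mulUp]
        show scalA A U (g i) • (scalA A U b' • (show Γ(G.obj (op (n + 2)), U) from z)) =
          scalA A U (b' * g i) • (show Γ(G.obj (op (n + 2)), U) from z)
        rw [smul_smul, ← map_mul, mul_comm]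
      | zero => rw [mul_zero, zero_smul]; exact W.zero_mem
      | add c c' hc hc' h h' =>
        rw [mul_add, add_smul]
        exact W.add_mem h h'
      | smul e c hc h =>
        rw [smul_eq_mul, mul_left_comm, mul_smul]
        exact W.smul_mem e h
    | add b b' _ _ h h' => rw [add_smul]; exact W.add_mem h h'
  haveI := (hG.1 (n + 1)).1
  haveI := (hG.1 (n + 2)).1
  obtain ⟨hz, hiso⟩ := hG.2.2 (n + 1)
  have hx0 : (tr G (n + 1)).app U (ι₁ x) = 0 := by
    show (kernel.ι (tr G (n + 1)) ≫ tr G (n + 1)).app U x = 0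
    rw [kernel.condition]
    rfl
  obtain ⟨y, hy, hyx⟩ := hle (mem_smul_of_app_eq_zero (hfg.pow (n := n + 1 + 1)) _ hz hiso hU (ι₁ x) hx0)
  have e : y = x := injective_app_of_mono' (kernel.ι (tr G (n + 1))) U hyx
  exact e ▸ hy

include hG in
/-- Uniform vanishing on the kernels. -/
theorem exists_van_kernels [IsNoetherianRing A] {L : X.Modules} (hL : PicF.IsInvertible L)
    (hv : ∀ M : X.Modules, Coh.IsCoh M → ∃ d₀, ∀ d, d₀ ≤ d → Van L d M) :
    ∃ d₀, ∀ d, d₀ ≤ d → ∀ n, Van L d (kernel (tr G n)) := by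
  obtain ⟨r, g, hg⟩ := Submodule.fg_iff_exists_fin_generating_family.1 (IsNoetherian.noetherian I)
  have hgI : ∀ i, g i ∈ I := fun i => hg ▸ Submodule.subset_span ⟨i, rfl⟩
  exact exists_uniform_van hL hv r (fun n => kernel (tr G n))
    (fun n => isCoh_kernel _ (hG.1 (n + 1)) (hG.1 n).1)
    (fun i n => grMul hG (hgI i) n) (fun i j n => grMul_comm hG (hgI i) (hgI j) n)
    fun U hU => noeAt_kernels hG g hgI hg.ge (IsNoetherian.noetherian I) hU

end Groth.Agent.LeadUV
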