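import Mathlib.RingTheory.Adjoin.FG
import Mathlib.RingTheory.FiniteType
import Mathlib.RingTheory.Polynomial.Basic
import Mathlib.LinearAlgebra.DirectSum.Finite
import Mathlib.RingTheory.Noetherian.Basic

/-!
# Stable families in a graded family are eventually generated
-/

set_option autoImplicit false
set_option linter.style.haveILetI false

universe u

open scoped DirectSum

namespace Groth.Agent.LeadUV

variable {R : Type u} [CommRing R] {r : ℕ}

/-- Every family of submodules stable under the maps is eventually generated by them. -/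
def NoeAt (N : ℕ → Type u) [∀ n, AddCommGroup (N n)] [∀ n, Module R (N n)]
    (t : Fin r → ∀ n, N n →ₗ[R] N (n + 1)) : Prop :=
  ∀ S : ∀ n, Submodule R (N n), (∀ i n, (S n).map (t i n) ≤ S (n + 1)) →
    ∃ c, ∀ n, c ≤ n → S (n + 1) ≤ ⨆ i, (S n).map (t i n)

variable {N N' : ℕ → Type u} [∀ n, AddCommGroup (N n)] [∀ n, Module R (N n)]
  [∀ n, AddCommGroup (N' n)] [∀ n, Module R (N' n)]
  {t : Fin (r + 1) → ∀ n, N n →ₗ[R] N (n + 1)} {t' : Fin r → ∀ n, N' n →ₗ[R] N' (n + 1)}

/-- Passing to a subfamily killed by the last map. -/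
theorem NoeAt.sub (h : NoeAt N t) (j : ∀ n, N' n →ₗ[R] N n) (hj : ∀ n, Function.Injective (j n))
    (hcomm : ∀ i n, j (n + 1) ∘ₗ t' i n = t i.castSucc n ∘ₗ j n) (hlast : ∀ n, t (Fin.last r) n ∘ₗ j n = 0) :
    NoeAt N' t' := by
  intro S hS
  obtain ⟨c, hc⟩ := h (fun n => (S n).map (j n)) fun i n => by
    cases i using Fin.lastCases with
    | last => rw [← Submodule.map_comp, hlast, Submodule.map_zero]; exact bot_le
    | cast i =>
      rw [← Submodule.map_comp, ← hcomm, Submodule.map_comp]
      exact Submodule.map_mono (hS i n)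
  refine ⟨c, fun n hn => (Submodule.map_le_map_iff_of_injective (hj (n + 1)) _ _).1 ((hc n hn).trans ?_)⟩
  refine iSup_le fun i => ?_
  cases i using Fin.lastCases with
  | last => rw [← Submodule.map_comp, hlast, Submodule.map_zero]; exact bot_le
  | cast i =>
    rw [← Submodule.map_comp, ← hcomm, Submodule.map_comp]
    exact Submodule.map_mono (le_iSup (fun i => (S n).map (t' i n)) i)

/-- Passing to a shifted quotient family killed by the last map. -/
theorem NoeAt.quot (h : NoeAt N t) (q : ∀ n, N (n + 1) →ₗ[R] N' n) (hq : ∀ n, Function.Surjective (q n))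
    (hcomm : ∀ i n, q (n + 1) ∘ₗ t i.castSucc (n + 1) = t' i n ∘ₗ q n)
    (hlast : ∀ n, q (n + 1) ∘ₗ t (Fin.last r) (n + 1) = 0) :
    NoeAt N' t' := by
  intro S hS
  let T : ∀ n, Submodule R (N n)
    | 0 => ⊥
    | n + 1 => (S n).comap (q n)
  obtain ⟨c, hc⟩ := h T fun i n => by
    cases n with
    | zero => rw [show T 0 = ⊥ from rfl, Submodule.map_bot]; exact bot_le
    | succ n =>
      refine Submodule.map_le_iff_le_comap.2 fun x hx => ?_
      show q (n + 1) (t i (n + 1) x) ∈ S (n + 1)
      cases i using Fin.lastCases with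
      | last => rw [show q (n + 1) (t (Fin.last r) (n + 1) x) = 0 from LinearMap.congr_fun (hlast n) x]; exact zero_mem _
      | cast i =>
        rw [show q (n + 1) (t i.castSucc (n + 1) x) = t' i n (q n x) from LinearMap.congr_fun (hcomm i n) x]
        exact hS i n ⟨q n x, hx, rfl⟩
  refine ⟨c, fun n hn => ?_⟩
  have h1 := Submodule.map_mono (f := q (n + 1)) (hc (n + 1) (by omega))
  rw [show T (n + 1 + 1) = (S (n + 1)).comap (q (n + 1)) from rfl,
    Submodule.map_comap_eq_of_surjective (hq (n + 1)), Submodule.map_iSup] at h1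
  refine h1.trans (iSup_le fun i => ?_)
  rw [← Submodule.map_comp]
  cases i using Fin.lastCases with
  | last => rw [hlast, Submodule.map_zero]; exact bot_le
  | cast i =>
    rw [hcomm, Submodule.map_comp]
    exact (Submodule.map_mono (Submodule.map_comap_le _ _)).trans (le_iSup (fun i => (S n).map (t' i n)) i)

variable {s : Fin r → ∀ n, N n →ₗ[R] N (n + 1)}

/-- The shift on the direct sum. -/
noncomputable def shiftMap (s : Fin r → ∀ n, N n →ₗ[R] N (n + 1)) (i : Fin r) : Module.End R (⨁ n, N n) :=
  DirectSum.toModule R ℕ _ fun n => DirectSum.lof R ℕ N (n + 1) ∘ₗ s i n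

theorem shiftMap_lof (i : Fin r) (n : ℕ) (x : N n) :
    shiftMap s i (DirectSum.lof R ℕ N n x) = DirectSum.lof R ℕ N (n + 1) (s i n x) :=
  DirectSum.toModule_lof R n x

theorem component_shiftMap (i : Fin r) (x : ⨁ n, N n) :
    DirectSum.component R ℕ N 0 (shiftMap s i x) = 0 ∧
      ∀ n, DirectSum.component R ℕ N (n + 1) (shiftMap s i x) = s i n (DirectSum.component R ℕ N n x) := by
  induction x using DirectSum.induction_on with
  | zero => simp
  | add a b ha hb => simp [map_add, ha, hb]
  | of m y =>
    rw [← DirectSum.lof_eq_of R, shiftMap_lof]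
    refine ⟨(DirectSum.component.of R _ _ _).trans (dif_neg (Nat.succ_ne_zero m)), fun n => ?_⟩
    rw [DirectSum.component.of, DirectSum.component.of]
    split_ifs with h1 h2 h2
    · obtain rfl : m = n := Nat.succ_injective h1
      rfl
    · exact absurd (Nat.succ_injective h1) h2
    · exact absurd (congrArg (· + 1) h2) h1
    · rw [map_zero]

/-- Finite modules over a Noetherian ring, generated in bounded degree by commuting maps. -/
theorem noeAt_of_generated [IsNoetherianRing R] [∀ n, Module.Finite R (N n)]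
    (hs : ∀ i j n, s j (n + 1) ∘ₗ s i n = s i (n + 1) ∘ₗ s j n) (c₀ : ℕ)
    (hgen : ∀ n, c₀ ≤ n → (⊤ : Submodule R (N (n + 1))) ≤ ⨆ i, (⊤ : Submodule R (N n)).map (s i n)) :
    NoeAt N s := by
  classical
  intro S hS
  let M := ⨁ n, N n
  have hcomm : ∀ a ∈ Set.range (shiftMap s), ∀ b ∈ Set.range (shiftMap s), a * b = b * a := by
    rintro _ ⟨i, rfl⟩ _ ⟨j, rfl⟩
    refine DirectSum.linearMap_ext R fun n => LinearMap.ext fun x => ?_
    show shiftMap s i (shiftMap s j (DirectSum.lof R ℕ N n x)) = shiftMap s j (shiftMap s i (DirectSum.lof R ℕ N n x))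
    rw [shiftMap_lof, shiftMap_lof, shiftMap_lof, shiftMap_lof]
    exact congrArg _ (LinearMap.congr_fun (hs j i n) x)
  let B := Algebra.adjoin R (Set.range (shiftMap s))
  letI : CommRing B := Algebra.adjoinCommRingOfComm R hcomm
  haveI : Algebra.FiniteType R B := ⟨(Subalgebra.fg_top _).2 (Subalgebra.fg_def.2 ⟨_, Set.finite_range _, rfl⟩)⟩
  haveI : IsNoetherianRing B := Algebra.FiniteType.isNoetherianRing R B
  have hBshift : ∀ i, shiftMap s i ∈ B := fun i => Algebra.subset_adjoin ⟨i, rfl⟩
  haveI : IsScalarTower R B M := ⟨fun a b x => LinearMap.smul_apply a b.1 x⟩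
  -- finite over `B`
  let F : Submodule R M := ⨆ n ∈ Finset.range (c₀ + 1), LinearMap.range (DirectSum.lof R ℕ N n)
  have hF : F.FG := Submodule.fg_biSup _ _ fun n _ => Module.Finite.iff_fg.1 (Module.Finite.range _)
  let Q : Submodule B M := Submodule.span B (F : Set M)
  have hall : ∀ n (x : N n), DirectSum.lof R ℕ N n x ∈ Q := by
    intro n
    induction n with
    | zero =>
      exact fun x => Submodule.subset_span (le_biSup (fun n => LinearMap.range (DirectSum.lof R ℕ N n))
        (Finset.mem_range.2 (Nat.succ_pos c₀)) ⟨x, rfl⟩)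
    | succ n ih =>
      intro x
      by_cases hn : n + 1 ≤ c₀
      · exact Submodule.subset_span (le_biSup (fun n => LinearMap.range (DirectSum.lof R ℕ N n))
          (Finset.mem_range.2 (Nat.lt_succ_of_le hn)) ⟨x, rfl⟩)
      · have hx : DirectSum.lof R ℕ N (n + 1) x ∈
            (⨆ i, (⊤ : Submodule R (N n)).map (s i n)).map (DirectSum.lof R ℕ N (n + 1)) :=
          ⟨x, hgen n (by omega) Submodule.mem_top, rfl⟩
        rw [Submodule.map_iSup] at hx
        refine (iSup_le (a := (Q.restrictScalars R)) fun i => ?_) hx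
        rw [← Submodule.map_comp]
        rintro _ ⟨y, -, rfl⟩
        show DirectSum.lof R ℕ N (n + 1) (s i n y) ∈ Q
        rw [← shiftMap_lof]
        exact Q.smul_mem ⟨_, hBshift i⟩ (ih y)
  haveI : Module.Finite B M := by
    obtain ⟨T, hT⟩ := hF
    refine ⟨T, eq_top_iff.2 fun x _ => by
      have hQ : Q ≤ Submodule.span B (T : Set M) := Submodule.span_le.2 fun y hy => by
        rw [← hT] at hy
        exact Submodule.span_le_restrictScalars R B _ hy
      refine hQ ?_
      induction x using DirectSum.induction_on with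
      | zero => exact zero_mem _
      | add a b ha hb => exact add_mem (ha trivial) (hb trivial)
      | of m y => exact hall m y⟩
  -- the submodule of the family
  let SM : Submodule R M := ⨅ n, (S n).comap (DirectSum.component R ℕ N n)
  have hstab : ∀ (b : B) (P : Submodule R M), (∀ i x, x ∈ P → shiftMap s i x ∈ P) → ∀ x ∈ P, b.1 x ∈ P := by
    intro b P hP
    suffices h : ∀ a ∈ B, ∀ x ∈ P, a x ∈ P from h b.1 b.2
    intro a ha
    induction ha using Algebra.adjoin_induction with
    | mem a ha => obtain ⟨i, rfl⟩ := ha; exact hP i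
    | algebraMap c => intro x hx; exact P.smul_mem c hx
    | add a b _ _ ha hb => intro x hx; exact add_mem (ha x hx) (hb x hx)
    | mul a b _ _ ha hb => intro x hx; exact ha _ (hb x hx)
  have hSMs : ∀ i x, x ∈ SM → shiftMap s i x ∈ SM := by
    intro i x hx
    simp only [SM, Submodule.mem_iInf, Submodule.mem_comap] at hx ⊢
    intro n
    cases n with
    | zero => rw [(component_shiftMap i x).1]; exact zero_mem _
    | succ n => rw [(component_shiftMap i x).2]; exact hS i n ⟨_, hx n, rfl⟩
  let SB : Submodule B M :=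
    { SM.toAddSubmonoid with smul_mem' := fun b x hx => hstab b SM hSMs x hx }
  obtain ⟨T, hT⟩ := (IsNoetherian.noetherian SB : SB.FG)
  let c := T.sup fun g => (DFinsupp.support g).sup id
  refine ⟨c, fun n hn x hx => ?_⟩
  let P : Submodule R M :=
    SM ⊓ ⨅ m ∈ Set.Ici c, (⨆ i, (S m).map (s i m)).comap (DirectSum.component R ℕ N (m + 1))
  have hPs : ∀ i y, y ∈ P → shiftMap s i y ∈ P := by
    intro i y hy
    refine ⟨hSMs i y hy.1, ?_⟩
    simp only [SetLike.mem_coe, Submodule.mem_iInf, Submodule.mem_comap]
    intro m _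
    rw [(component_shiftMap i y).2]
    refine le_iSup (fun i => (S m).map (s i m)) i ⟨_, ?_, rfl⟩
    have := hy.1
    simp only [SM, SetLike.mem_coe, Submodule.mem_iInf, Submodule.mem_comap] at this
    exact this m
  let PB : Submodule B M :=
    { P.toAddSubmonoid with smul_mem' := fun b y hy => hstab b P hPs y hy }
  have hle : SB ≤ PB := by
    rw [← hT, Submodule.span_le]
    intro g hg
    refine ⟨hT.le (Submodule.subset_span hg), ?_⟩
    simp only [SetLike.mem_coe, Submodule.mem_iInf, Submodule.mem_comap]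
    intro m hm
    have h0 : DirectSum.component R ℕ N (m + 1) g = 0 := by
      by_contra hne
      have h1 : m + 1 ≤ c := le_trans (Finset.le_sup (f := id) (DFinsupp.mem_support_iff.2 hne))
        (Finset.le_sup (f := fun g : M => (DFinsupp.support g).sup id) hg)
      exact absurd (show c ≤ m from hm) (by omega)
    rw [h0]
    exact zero_mem _
  have hxS : DirectSum.lof R ℕ N (n + 1) x ∈ SB := by
    show DirectSum.lof R ℕ N (n + 1) x ∈ SM
    simp only [SM, Submodule.mem_iInf, Submodule.mem_comap]
    intro m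
    rw [DirectSum.component.of]
    split_ifs with h
    · subst h; exact hx
    · exact zero_mem _
  have := (hle hxS).2
  simp only [SetLike.mem_coe, Submodule.mem_iInf, Submodule.mem_comap] at this
  have h2 := this n (show c ≤ n from hn)
  rwa [DirectSum.component.lof_self] at h2

end Groth.Agent.LeadUV
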