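import Groth.Agent.LeadUV.Vanish
import Groth.Agent.H17.PullSectLocal
import Groth.Agent.LeadProper.Supp
import Groth.Agent.H16Derived.ProjFormula.ClosedImm
import Groth.Agent.H7Lim.Thickening

/-!
# Moving killed modules down to the reduced level
-/

set_option autoImplicit false
set_option linter.style.haveILetI false
set_option linter.unusedSectionVars false

noncomputable section

universe u

open CategoryTheory CategoryTheory.Limits AlgebraicGeometry Opposite TopologicalSpace
open Groth.Agent.H11Tilde Groth.Agent.H11Ample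

namespace Groth.Agent.LeadUV

open Groth.Agent.H10Coh Groth.Agent.H10Coh.Tw

attribute [local instance 10000] H10Coh.hasSheafifyAb H10Coh.hasWeakSheafifyAb H10Coh.hasExtAb H10Coh.enoughInjAb

variable {Z Y Y' : Scheme.{u}}

theorem isIso_counit (g : Y ⟶ Y') [IsClosedImmersion g] (P : Y.Modules) :
    IsIso ((Scheme.Modules.pullbackPushforwardAdjunction g).counit.app P) :=
  H16Derived.ProjFormula.isIso_counit_of_isClosedImmersion g P

theorem counit_pullSect (g : Y ⟶ Y') (P : Y.Modules) (W : Y'.Opens) (x : Γ(P, g ⁻¹ᵁ W)) :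
    ((Scheme.Modules.pullbackPushforwardAdjunction g).counit.app P).app (g ⁻¹ᵁ W)
      (OmegaSh.pullSect g ((Scheme.Modules.pushforward g).obj P) W x) = x :=
  congr($(congrArg (fun k => Scheme.Modules.Hom.app k W)
    ((Scheme.Modules.pullbackPushforwardAdjunction g).right_triangle_components P)) x)

variable (e : Z ⟶ Y) (g : Y ⟶ Y') [IsClosedImmersion g] {P : Y.Modules} {P' : Y'.Modules}
  (T : (Scheme.Modules.pushforward g).obj P ⟶ P')

/-- The map induced downstairs. -/
def down : (Scheme.Modules.pullback e).obj P ⟶ (Scheme.Modules.pullback (e ≫ g)).obj P' :=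
  haveI := isIso_counit g P
  (Scheme.Modules.pullback e).map (inv ((Scheme.Modules.pullbackPushforwardAdjunction g).counit.app P)) ≫
    (Scheme.Modules.pullbackComp e g).hom.app _ ≫ (Scheme.Modules.pullback (e ≫ g)).map T

theorem down_pullSect (W : Y'.Opens) (x : Γ(P, g ⁻¹ᵁ W)) :
    (down e g T).app ((e ≫ g) ⁻¹ᵁ W) (OmegaSh.pullSect e P (g ⁻¹ᵁ W) x) =
      OmegaSh.pullSect (e ≫ g) P' W (T.app W x) := by
  haveI := isIso_counit g P
  let c := (Scheme.Modules.pullbackPushforwardAdjunction g).counit.app P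
  let GP := (Scheme.Modules.pushforward g).obj P
  have hinv : (inv c).app (g ⁻¹ᵁ W) x = OmegaSh.pullSect g GP W x := by
    refine (congrArg ((inv c).app (g ⁻¹ᵁ W)) (counit_pullSect g P W x).symm).trans ?_
    show (c ≫ inv c).app (g ⁻¹ᵁ W) _ = _
    rw [IsIso.hom_inv_id]
    rfl
  show ((Scheme.Modules.pullback (e ≫ g)).map T).app ((e ≫ g) ⁻¹ᵁ W)
    (((Scheme.Modules.pullbackComp e g).hom.app GP).app ((e ≫ g) ⁻¹ᵁ W)
      (((Scheme.Modules.pullback e).map (inv c)).app (e ⁻¹ᵁ (g ⁻¹ᵁ W)) (OmegaSh.pullSect e P (g ⁻¹ᵁ W) x))) = _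
  refine Eq.trans (congrArg _ ?_) (H17.PullSect.pullSect_natural (e ≫ g) T W x).symm
  refine (congrArg (((Scheme.Modules.pullbackComp e g).hom.app GP).app ((e ≫ g) ⁻¹ᵁ W))
    ((H17.PullSect.pullSect_natural e (inv c) (g ⁻¹ᵁ W) x).symm.trans
      (congrArg (OmegaSh.pullSect e _ (g ⁻¹ᵁ W)) hinv))).trans ?_
  refine (congrArg (((Scheme.Modules.pullbackComp e g).hom.app GP).app ((e ≫ g) ⁻¹ᵁ W))
    (H17.PullSect.pullSect_comp e g GP W x).symm).trans ?_
  show ((Scheme.Modules.pullbackComp e g).inv.app GP ≫ (Scheme.Modules.pullbackComp e g).hom.app GP).app _ _ = _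
  rw [Iso.inv_hom_id_app]
  rfl

variable {e}

/-- The unit is bijective on sections for killed modules. -/
theorem bijective_pullSect_killed [IsClosedImmersion e] {M : Y.Modules} (hM : Coh.IsQCoh M)
    (hk : ClSub.KilledByIdeal e.ker M) (W : Y.Opens) : Function.Bijective (OmegaSh.pullSect e M W) := by
  haveI := LeadProper.isIso_unit_of_killedByIdeal M hM e hk
  exact H17.PullSect.bijective_app ((Scheme.Modules.pullbackPushforwardAdjunction e).unit.app M) W

/-- Affine opens upstairs for a surjective closed immersion. -/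
theorem exists_affine_preimage (e : Z ⟶ Y) [IsClosedImmersion e] [Surjective e] {U : Z.Opens} (hU : IsAffineOpen U) :
    ∃ W : Y.Opens, IsAffineOpen W ∧ e ⁻¹ᵁ W = U := by
  have hbij : Function.Bijective e := ⟨e.isClosedEmbedding.injective, e.surjective⟩
  let W : Y.Opens := ⟨e '' U, by
    rw [← compl_compl (e '' (U : Set Z)), ← Set.image_compl_eq hbij]
    exact (e.isClosedEmbedding.isClosedMap _ U.isOpen.isClosed_compl).isOpen_compl⟩
  have hpre : e ⁻¹ᵁ W = U := Opens.ext (Set.preimage_image_eq _ hbij.1)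
  haveI : IsClosedImmersion (e ∣_ W) := IsZariskiLocalAtTarget.restrict (P := @IsClosedImmersion) (f := e) ‹_› _
  haveI : Surjective (e ∣_ W) := IsZariskiLocalAtTarget.restrict (P := @Surjective) (f := e) ‹_› _
  haveI : IsAffine (e ⁻¹ᵁ W : Z.Opens).toScheme := hpre.symm ▸ hU
  exact ⟨W, H7Lim.isAffine_of_surjective_closedImmersion (e ∣_ W) Surjective.surj, hpre⟩

/-- Vanishing passes to direct images along affine morphisms. -/
theorem Van.push {L : Y.Modules} {L' : Y'.Modules} (hL' : PicF.IsInvertible L')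
    (φ : (Scheme.Modules.pullback g).obj L' ≅ L) {d : ℕ} {M : Y.Modules} (hM : Coh.IsQCoh M) (h : Van L d M) :
    Van L' d ((Scheme.Modules.pushforward g).obj M) := by
  intro p hp
  have hLd := isInvertible_tensorPow hL' d
  obtain ⟨e₂⟩ := nonempty_push_tensor_iso g M hLd
  obtain ⟨e₃⟩ := exists_iso_pullback_tensorPow g hL' d
  haveI : (CohB1.tensorMod M ((Scheme.Modules.pullback g).obj (CohB1.tensorPow L' d))).IsQuasicoherent :=
    isQCoh_tensor hM (isInvertible_pullback g hLd)
  refine subsingleton_of_iso e₂.symm ?_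
  exact @Equiv.subsingleton _ _ (affineLerayEquiv g _ p ⊤).toEquiv
    (subsingleton_of_iso (PicGrp.tensorModIso (Iso.refl M) (e₃ ≪≫ tensorPowIso φ d)).symm (h p hp))

end Groth.Agent.LeadUV
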