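import Groth.Agent.LeadUV.Noe
import Groth.Agent.H10Coh.SerreVanishing2
import Groth.Agent.H10Coh.FinType2
import Groth.Agent.LeadBC.GenBC.FlatChart

/-!
# Uniform vanishing for a graded family of coherent modules
-/

set_option autoImplicit false
set_option linter.style.haveILetI false
set_option linter.unusedSectionVars false

noncomputable section

universe u

open CategoryTheory CategoryTheory.Limits AlgebraicGeometry Opposite TopologicalSpace
open Groth.Agent.H11Tilde Groth.Agent.H11Ample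

namespace Groth.Agent.LeadUV

open Groth.Agent.H10Coh Groth.Agent.H10Coh.Tw

attribute [local instance 10000] H10Coh.hasSheafifyAb H10Coh.hasWeakSheafifyAb H10Coh.hasExtAb H10Coh.enoughInjAb

variable {X : Scheme.{u}}

/-- A morphism on the sections over an open, linearly. -/
def appLin {M N : X.Modules} (φ : M ⟶ N) (U : X.Opens) : Γ(M, U) →ₗ[Γ(X, U)] Γ(N, U) where
  toFun := φ.app U
  map_add' := map_add _
  map_smul' r m := φ.app_smul r m

theorem appLin_comp {M N P : X.Modules} (φ : M ⟶ N) (ψ : N ⟶ P) (U : X.Opens) :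
    appLin (φ ≫ ψ) U = appLin ψ U ∘ₗ appLin φ U := rfl

theorem appLin_zero (M N : X.Modules) (U : X.Opens) : appLin (0 : M ⟶ N) U = 0 := rfl

/-- The positive degree cohomology of the twist vanishes. -/
def Van (L : X.Modules) (d : ℕ) (M : X.Modules) : Prop :=
  ∀ p, 0 < p → Subsingleton (HnM (CohB1.tensorMod M (CohB1.tensorPow L d)) p ⊤)

theorem subsingleton_X₂ {T : TopCat.{u}} {S : ShortComplex (CohTop.Ab T)} (hS : S.ShortExact) {n : ℕ} {U : Opens T}
    (h₁ : Subsingleton (Hn S.X₁ n U)) (h₃ : Subsingleton (Hn S.X₃ n U)) : Subsingleton (Hn S.X₂ n U) :=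
  ⟨fun a b => by
    have key : ∀ x : Hn S.X₂ n U, x = 0 := fun x => by
      obtain ⟨y, hy⟩ := Abelian.Ext.covariant_sequence_exact₂ _ hS x (Subsingleton.elim _ _)
      rw [← hy, Subsingleton.elim y 0, Abelian.Ext.zero_comp]
    rw [key a, key b]⟩

variable {L : X.Modules} {d : ℕ}

theorem Van.of_iso {M N : X.Modules} (e : M ≅ N) (h : Van L d M) : Van L d N := fun p hp =>
  subsingleton_of_iso (PicGrp.tensorModIso e (Iso.refl _)) (h p hp)

theorem Van.of_isZero {M : X.Modules} (hL : PicF.IsInvertible L) (hM : IsZero M) : Van L d M := fun p _ => by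
  have h0 : 𝟙 (CohB1.tensorMod M (CohB1.tensorPow L d)) = 0 :=
    (LimSh.tensorModMap_id M _).symm.trans
      ((congrArg (fun φ => LimSh.tensorModMap φ (CohB1.tensorPow L d)) (hM.eq_of_src (𝟙 M) 0)).trans
        (map_zero (mapHom M M (isInvertible_tensorPow hL d))))
  refine subsingleton_of_sum_eq_id (ι := Empty) (P := fun a => a.elim) (fun a => a.elim) (fun a => a.elim) ?_
    (fun a => a.elim)
  rw [Finset.univ_eq_empty, Finset.sum_empty]
  exact (((H10Coh.shF X).map_id _).symm.trans ((congrArg (H10Coh.shF X).map h0).trans ((H10Coh.shF X).map_zero _ _))).symm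

theorem Van.middle {S : ShortComplex X.Modules} (hS : S.ShortExact) (hL : PicF.IsInvertible L)
    (h₁ : Van L d S.X₁) (h₃ : Van L d S.X₃) : Van L d S.X₂ := fun p hp =>
  subsingleton_X₂ (shortExact_sh (shortExact_seq hS (isInvertible_tensorPow hL d))) (h₁ p hp) (h₃ p hp)

theorem Van.right {S : ShortComplex X.Modules} (hS : S.ShortExact) (hL : PicF.IsInvertible L)
    (h₂ : Van L d S.X₂) (h₁ : Van L d S.X₁) : Van L d S.X₃ := fun p hp =>
  subsingleton_X₃ (shortExact_sh (shortExact_seq hS (isInvertible_tensorPow hL d))) (h₂ p hp)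
    (h₁ (p + 1) p.succ_pos)

theorem shortExact_coimage {M N : X.Modules} (φ : M ⟶ N) :
    (ShortComplex.mk (kernel.ι φ) (cokernel.π (kernel.ι φ)) (cokernel.condition _)).ShortExact :=
  { exact := ShortComplex.exact_cokernel _ }

theorem shortExact_image {M N : X.Modules} (φ : M ⟶ N) :
    (ShortComplex.mk (Abelian.image.ι φ) (cokernel.π φ) (kernel.condition _)).ShortExact :=
  { exact := ShortComplex.exact_of_f_is_kernel _ (kernelIsKernel _) }

theorem Van.coimage {M N : X.Modules} (φ : M ⟶ N) (hL : PicF.IsInvertible L) (hM : Van L d M)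
    (hK : Van L d (kernel φ)) : Van L d (Abelian.coimage φ) :=
  Van.right (S := ShortComplex.mk (kernel.ι φ) (cokernel.π (kernel.ι φ)) (cokernel.condition _))
    (shortExact_coimage φ) hL hM hK

/-- Kernel, source, target and cokernel. -/
theorem Van.step {M N : X.Modules} (φ : M ⟶ N) (hL : PicF.IsInvertible L) (hM : Van L d M)
    (hK : Van L d (kernel φ)) (hC : Van L d (cokernel φ)) : Van L d N :=
  Van.middle (S := ShortComplex.mk (Abelian.image.ι φ) (cokernel.π φ) (kernel.condition _))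
    (shortExact_image φ) hL ((Van.coimage φ hL hM hK).of_iso (Abelian.coimageIsoImage φ)) hC

variable [IsNoetherian X]

theorem exists_finite_affine_cover (X : Scheme.{u}) [CompactSpace X] :
    ∃ T : Finset X.affineOpens, ∀ x : X, ∃ U ∈ T, x ∈ (U : X.Opens) := by
  choose U hU hxU _ using fun x : X => exists_isAffineOpen_mem_and_subset (U := (⊤ : X.Opens)) (x := x) trivial
  obtain ⟨t, ht⟩ := isCompact_univ.elim_finite_subcover (fun x => (U x : Set X)) (fun x => (U x).isOpen)
    (fun x _ => Set.mem_iUnion.2 ⟨x, hxU x⟩)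
  classical
  refine ⟨t.image fun x => ⟨U x, hU x⟩, fun y => ?_⟩
  obtain ⟨x, hx, hy⟩ := Set.mem_iUnion₂.1 (ht (Set.mem_univ y))
  exact ⟨_, Finset.mem_image.2 ⟨x, hx, rfl⟩, hy⟩

theorem exists_bound (hv : ∀ M : X.Modules, Coh.IsCoh M → ∃ d₀, ∀ d, d₀ ≤ d → Van L d M)
    (K : ℕ → X.Modules) (hK : ∀ n, Coh.IsCoh (K n)) (c : ℕ) :
    ∃ d₀, ∀ d, d₀ ≤ d → ∀ n, n ≤ c → Van L d (K n) := by
  choose D hD using fun n => hv (K n) (hK n)
  exact ⟨(Finset.range (c + 1)).sup D, fun d hd n hn =>
    hD n d (le_trans (Finset.le_sup (Finset.mem_range.2 (Nat.lt_succ_of_le hn))) hd)⟩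

theorem exists_uniform_van (hL : PicF.IsInvertible L)
    (hv : ∀ M : X.Modules, Coh.IsCoh M → ∃ d₀, ∀ d, d₀ ≤ d → Van L d M) :
    ∀ (r : ℕ) (K : ℕ → X.Modules) (_ : ∀ n, Coh.IsCoh (K n)) (t : Fin r → ∀ n, K n ⟶ K (n + 1)),
      (∀ i j n, t i n ≫ t j (n + 1) = t j n ≫ t i (n + 1)) →
      (∀ U : X.Opens, IsAffineOpen U → NoeAt (R := Γ(X, U)) (fun n => Γ(K n, U)) (fun i n => appLin (t i n) U)) →
      ∃ d₀, ∀ d, d₀ ≤ d → ∀ n, Van L d (K n) := by
  intro r
  induction r with
  | zero =>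
    intro K hK t _ hN
    obtain ⟨T, hT⟩ := exists_finite_affine_cover X
    choose c hc using fun U : X.affineOpens => hN U.1 U.2 (fun _ => ⊤) (fun i _ => i.elim0)
    obtain ⟨d₀, hd₀⟩ := exists_bound hv K hK (T.sup c)
    refine ⟨d₀, fun d hd n => ?_⟩
    by_cases hn : n ≤ T.sup c
    · exact hd₀ d hd n hn
    obtain ⟨m, rfl⟩ : ∃ m, n = m + 1 := ⟨n - 1, by omega⟩
    refine Van.of_isZero hL ?_
    have hsub : ∀ U ∈ T, Subsingleton Γ(K (m + 1), (U : X.Opens)) := fun U hU => by
      have h1 := hc U m (by have := Finset.le_sup (f := c) hU; omega)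
      rw [iSup_of_empty] at h1
      exact ⟨fun a b => ((Submodule.mem_bot _).1 (h1 (Submodule.mem_top (x := a)))).trans
        ((Submodule.mem_bot _).1 (h1 (Submodule.mem_top (x := b)))).symm⟩
    haveI : IsIso (0 : K (m + 1) ⟶ K (m + 1)) :=
      LeadBC.GenBC.isIso_of_bijective_affine_cover _ (hK _).1 (hK _).1 (fun U => ∃ hU, (⟨U, hU⟩ : X.affineOpens) ∈ T)
        (fun x => (hT x).imp' (fun U => U.1) fun U hU => ⟨⟨U.2, hU.1⟩, U.2, hU.2⟩)
        fun U ⟨_, hUT⟩ _ => by
          haveI := hsub _ hUT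
          exact ⟨fun a b _ => Subsingleton.elim a b, fun b => ⟨0, Subsingleton.elim _ b⟩⟩
    refine (IsZero.iff_id_eq_zero _).2 ?_
    rw [← IsIso.hom_inv_id (0 : K (m + 1) ⟶ K (m + 1)), Limits.zero_comp]
  | succ r ih =>
    intro K hK t hc hN
    let τ := fun n => t (Fin.last r) n
    have hkc : ∀ n, Coh.IsCoh (kernel (τ n)) := fun n => isCoh_kernel (τ n) (hK n) (hK (n + 1)).1
    have hcc : ∀ n, Coh.IsCoh (cokernel (τ n)) := fun n => isCoh_cokernel (τ n) (hK n).1 (hK (n + 1))
    let tk : Fin r → ∀ n, kernel (τ n) ⟶ kernel (τ (n + 1)) := fun i n =>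
      kernel.map (τ n) (τ (n + 1)) (t i.castSucc n) (t i.castSucc (n + 1)) (hc (Fin.last r) i.castSucc n)
    let tc : Fin r → ∀ n, cokernel (τ n) ⟶ cokernel (τ (n + 1)) := fun i n =>
      cokernel.map (τ n) (τ (n + 1)) (t i.castSucc n) (t i.castSucc (n + 1)) (hc (Fin.last r) i.castSucc n)
    have hk_ι : ∀ i n, tk i n ≫ kernel.ι (τ (n + 1)) = kernel.ι (τ n) ≫ t i.castSucc n := fun i n =>
      kernel.lift_ι _ _ _
    have hc_π : ∀ i n, cokernel.π (τ n) ≫ tc i n = t i.castSucc (n + 1) ≫ cokernel.π (τ (n + 1)) := fun i n =>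
      cokernel.π_desc _ _ _
    obtain ⟨d₁, h₁⟩ := ih (fun n => kernel (τ n)) hkc tk
      (fun i j n => by
        rw [← cancel_mono (kernel.ι (τ (n + 1 + 1))), Category.assoc, Category.assoc, hk_ι, hk_ι,
          ← Category.assoc, ← Category.assoc, hk_ι, hk_ι, Category.assoc, Category.assoc, hc])
      (fun U hU => (hN U hU).sub (fun n => appLin (kernel.ι (τ n)) U)
        (fun n => injective_app_of_mono' (kernel.ι (τ n)) U)
        (fun i n => by rw [← appLin_comp, hk_ι, appLin_comp])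
        (fun n => by rw [← appLin_comp]; exact (congrArg (fun φ => appLin φ U) (kernel.condition (τ n))).trans rfl))
    obtain ⟨d₂, h₂⟩ := ih (fun n => cokernel (τ n)) hcc tc
      (fun i j n => by
        rw [← cancel_epi (cokernel.π (τ n)), ← Category.assoc, ← Category.assoc, hc_π, hc_π, Category.assoc,
          Category.assoc, hc_π, hc_π, ← Category.assoc, ← Category.assoc, hc])
      (fun U hU => (hN U hU).quot (fun n => appLin (cokernel.π (τ n)) U)
        (fun n => by
          haveI := (hK (n + 1)).1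
          haveI := (hcc n).1
          exact surjective_app_of_epi (cokernel.π (τ n)) hU)
        (fun i n => by rw [← appLin_comp, ← hc_π, appLin_comp])
        (fun n => by rw [← appLin_comp]; exact (congrArg (fun φ => appLin φ U) (cokernel.condition (τ (n + 1)))).trans rfl))
    obtain ⟨d₀, h₀⟩ := exists_bound hv K hK 0
    refine ⟨max d₀ (max d₁ d₂), fun d hd n => ?_⟩
    induction n with
    | zero => exact h₀ d (le_trans (le_max_left _ _) hd) 0 le_rfl
    | succ n ihn =>
      exact Van.step (τ n) hL ihn (h₁ d (le_trans ((le_max_left _ _).trans (le_max_right _ _)) hd) n)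
        (h₂ d (le_trans ((le_max_right _ _).trans (le_max_right _ _)) hd) n)

end Groth.Agent.LeadUV
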